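import Cfsg.Agent.Lib.JankoFourOrder.DualTreeDefs

/-!
# The orbits of two elements in `V`: kernel checks (owner: helper14)
-/

set_option autoImplicit false
set_option maxRecDepth 100000

namespace CfsgLib.JankoFour.Dual

theorem elem_0 : elemOK 0 = true := by decide +kernel

theorem tree_0 : treeOK 0 = true := by decide +kernel

theorem roots_0 : rootsOK 0 = true := by decide +kernel

theorem ident_0 : identOK 0 = true := by decide +kernel

theorem total_0_false : Nat.beq (total false 0) 1 = true := by decide +kernel

theorem total_0_true : Nat.beq (total true 0) 1 = true := by decide +kernel

theorem elem_1 : elemOK 1 = true := by decide +kernel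

theorem tree_1 : treeOK 1 = true := by decide +kernel

theorem roots_1 : rootsOK 1 = true := by decide +kernel

theorem ident_1 : identOK 1 = true := by decide +kernel

theorem total_1_false : Nat.beq (total false 1) 2688 = true := by decide +kernel

theorem total_1_true : Nat.beq (total true 1) 2688 = true := by decide +kernel

end CfsgLib.JankoFour.Dual
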