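import Cfsg.Agent.Lib.JankoFourOrder.DualTreeDefs

/-!
# The orbits of two free involutions: kernel checks (owner: helper14)
-/

set_option autoImplicit false
set_option maxRecDepth 100000

namespace CfsgLib.JankoFour.Dual

theorem elem_2 : elemOK 2 = true := by decide +kernel

theorem tree_2 : treeOK 2 = true := by decide +kernel

theorem roots_2 : rootsOK 2 = true := by decide +kernel

theorem ident_2 : identOK 2 = true := by decide +kernel

theorem total_2_true : Nat.beq (total true 2) 26241 = true := by decide +kernel

theorem elem_3 : elemOK 3 = true := by decide +kernel

theorem tree_3 : treeOK 3 = true := by decide +kernel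

theorem roots_3 : rootsOK 3 = true := by decide +kernel

theorem ident_3 : identOK 3 = true := by decide +kernel

theorem total_3_false : Nat.beq (total false 3) 26241 = true := by decide +kernel

end CfsgLib.JankoFour.Dual
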