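import Cfsg.Agent.Lib.JankoFourOrder.DualTreeDefs

/-!
# The orbits of two involutions with fixed points: kernel checks (owner: helper14)
-/

set_option autoImplicit false
set_option maxRecDepth 100000

namespace CfsgLib.JankoFour.Dual

theorem elem_4 : elemOK 4 = true := by decide +kernel

theorem tree_4 : treeOK 4 = true := by decide +kernel

theorem roots_4 : rootsOK 4 = true := by decide +kernel

theorem ident_4 : identOK 4 = true := by decide +kernel

theorem total_4_false : Nat.beq (total false 4) 44368 = true := by decide +kernel

theorem total_4_true : Nat.beq (total true 4) 44368 = true := by decide +kernel

theorem elem_5 : elemOK 5 = true := by decide +kernel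

theorem tree_5 : treeOK 5 = true := by decide +kernel

theorem roots_5 : rootsOK 5 = true := by decide +kernel

theorem ident_5 : identOK 5 = true := by decide +kernel

theorem total_5_false : Nat.beq (total false 5) 7681 = true := by decide +kernel

theorem total_5_true : Nat.beq (total true 5) 7681 = true := by decide +kernel

end CfsgLib.JankoFour.Dual
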