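import Cfsg.Agent.Lib.JankoFour.DuadClass
import Cfsg.Agent.Lib.JankoFourFive.Base
import Cfsg.Agent.Lib.JankoFourOrder.Codes
import Cfsg.Agent.Lib.Signalizer.OrderFormula

/-!
# The order of a group of Janko-four type: statements of the slices (owner: helper17)

See `notes/j4_order_helper17.md`.
-/

set_option autoImplicit false

namespace CfsgLib.JankoFour

open Cfsg CfsgLib.ThreeTrans CfsgLib.JankoFourOrder
open CfsgLib.Sporadic (Rep)

variable {G : Type*} [Group G] [Finite G]

namespace HexBase

variable {S : Setting G} (B : HexBase S)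

/-- Coordinates on the normalizer of `V`: a complement containing `p` and every `W w`. -/
structure NVModel where
  /-- the lift of a permutation -/
  k : ↥M24 →* G
  hk : ∀ σ, k σ ∈ B.NV
  hact : ∀ (σ : ↥M24) (p : ℕ), Rep σ.1 p → ∀ n < 2048,
    pImg p n < 2048 ∧ k σ * B.vel n * (k σ)⁻¹ = B.vel (pImg p n)
  hinj : ∀ (n m : ℕ) (σ τ : ↥M24), n < 2048 → m < 2048 → B.vel n * k σ = B.vel m * k τ → n = m ∧ σ = τ
  hdec : ∀ g ∈ B.NV, ∃ n < 2048, ∃ σ : ↥M24, g = B.vel n * k σ
  hW : ∀ w < 64, ∀ σ : ↥M24, Rep σ.1 (wPerm w) → k σ = B.W w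
  hp : ∀ σ : ↥M24, Rep σ.1 pPerm → k σ = B.X.F.p

/-- **Slice A**: the coordinates exist. -/
def NVModelStatement : Prop := Nonempty B.NVModel

/-- **Slice A**: the class of an involution of `N(V)` is read off its coordinates. -/
def NVTypeStatement : Prop :=
  ∀ (M : B.NVModel) (n : ℕ) (σ : ↥M24) (p : ℕ), n < 2048 → Rep σ.1 p →
    (B.vel n * M.k σ) * (B.vel n * M.k σ) = 1 → B.vel n * M.k σ ≠ 1 →
      (IsConj S.z (B.vel n * M.k σ) ↔ typeZ n p = true)

/-- **Slice B**: the order of the centralizer of the second involution. -/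
def DuadCentralizerCard : Prop :=
  Nat.card ↥(Subgroup.centralizer ({B.duadRep} : Set G)) = 2 ^ 11 * 887040

/-- **Slice B**: pairs whose product has the second involution among its powers. -/
def DuadPairCount : Prop :=
  Nat.card (CfsgLib.Signalizer.ClassPairs S.z B.duadRep B.duadRep) = 1544188503

/-- **Slice C**: pairs whose product has `z` among its powers. -/
def CentralPairCount : Prop :=
  Nat.card (CfsgLib.Signalizer.ClassPairs S.z B.duadRep S.z) = 29236337328

/-- The order, from the slices. -/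
theorem card_of_counts [IsSimpleGroup G] (hG : ¬ IsMulCommutative G) (hJ : IsOfJankoFourType G)
    (h1 : B.DuadCentralizerCard) (h2 : B.DuadPairCount) (h3 : B.CentralPairCount) :
    Nat.card G = 86775571046077562880 := by
  haveI : Fact (Nat.Prime 2) := ⟨Nat.prime_two⟩
  haveI : Nonempty (Frame S) := ⟨B.X.F⟩
  obtain ⟨ht1, htz⟩ := B.duadRep_facts hG hJ
  have htV := B.duadRep_mem
  have ht2 : B.duadRep * B.duadRep = 1 := by rw [← pow_two]; exact B.V_elementary.2 _ htV
  have ht : orderOf B.duadRep = 2 := orderOf_eq_prime (by rw [pow_two, ht2]) ht1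
  have hall : ∀ u : G, orderOf u = 2 → IsConj S.z u ∨ IsConj B.duadRep u := fun u hu =>
    B.two_classes hG hJ htV ht1 htz (by rw [← pow_two, ← hu, pow_orderOf_eq_one])
      (fun e => by rw [e, orderOf_one] at hu; norm_num at hu)
  have h := CfsgLib.Signalizer.thompson_order_formula S.z B.duadRep S.orderOf_z ht htz hall
  rw [show Nat.card ↥(Subgroup.centralizer ({B.duadRep} : Set G)) = 2 ^ 11 * 887040 from h1,
    show Nat.card (CfsgLib.Signalizer.ClassPairs S.z B.duadRep S.z) = 29236337328 from h3,
    show Nat.card (CfsgLib.Signalizer.ClassPairs S.z B.duadRep B.duadRep) = 1544188503 from h2,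
    show Nat.card ↥(Subgroup.centralizer ({S.z} : Set G)) = _ from S.card_H_five] at h
  omega

end HexBase

end CfsgLib.JankoFour
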