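import Cfsg.Agent.Lib.JankoFourOrder.DualTypes
import Cfsg.Agent.Lib.JankoFourOrder.DualTreeChecksA
import Cfsg.Agent.Lib.JankoFourOrder.DualTreeChecksB
import Cfsg.Agent.Lib.JankoFourOrder.DualTreeChecksC
import Cfsg.Agent.Lib.JankoFourOrder.Sig

/-!
# The pairs whose product has the second involution among its powers (owner: helper14)

* `duad_centralizer_card`, `duad_pair_count`
-/

set_option autoImplicit false
set_option linter.unusedSectionVars false
set_option maxRecDepth 100000

namespace CfsgLib.JankoFour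

open Cfsg CfsgLib.Sporadic CfsgLib.Sporadic.Hexad22 CfsgLib.JankoFourHexad CfsgLib.JankoFour.Ten CfsgLib.JankoFour.Dual
open CfsgLib.ThreeTrans.M24Inv (peq peq_iff)

namespace Dual

theorem x_ok : forallLt 6 (fun x => match xAt x with
    | (v, k, _, _, _) =>
      Nat.beq v ([1, 12, 0, 2, 0, 0].getD x 0) && peq k ([pone, pone, repPerms.getD 0 0, repPerms.getD 0 0, repPerms.getD 1 0, repPerms.getD 2 0].getD x 0)) = true := by
  decide +kernel

theorem two_free : (Nat.beq (limg (repImgs.getD 0 0) 2) 2 && !Nat.testBit (repImage.getD 0 0) 2) = true := by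
  decide +kernel

theorem tval_0_false : total false 0 = 1 := by
  have h := total_0_false
  revert h
  generalize total false 0 = X
  exact Nat.eq_of_beq_eq_true

theorem tval_0_true : total true 0 = 1 := by
  have h := total_0_true
  revert h
  generalize total true 0 = X
  exact Nat.eq_of_beq_eq_true

theorem tval_1_false : total false 1 = 2688 := by
  have h := total_1_false
  revert h
  generalize total false 1 = X
  exact Nat.eq_of_beq_eq_true

theorem tval_1_true : total true 1 = 2688 := by
  have h := total_1_true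
  revert h
  generalize total true 1 = X
  exact Nat.eq_of_beq_eq_true

theorem tval_2_true : total true 2 = 26241 := by
  have h := total_2_true
  revert h
  generalize total true 2 = X
  exact Nat.eq_of_beq_eq_true

theorem tval_3_false : total false 3 = 26241 := by
  have h := total_3_false
  revert h
  generalize total false 3 = X
  exact Nat.eq_of_beq_eq_true

theorem tval_4_false : total false 4 = 44368 := by
  have h := total_4_false
  revert h
  generalize total false 4 = X
  exact Nat.eq_of_beq_eq_true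

theorem tval_4_true : total true 4 = 44368 := by
  have h := total_4_true
  revert h
  generalize total true 4 = X
  exact Nat.eq_of_beq_eq_true

theorem tval_5_false : total false 5 = 7681 := by
  have h := total_5_false
  revert h
  generalize total false 5 = X
  exact Nat.eq_of_beq_eq_true

theorem tval_5_true : total true 5 = 7681 := by
  have h := total_5_true
  revert h
  generalize total true 5 = X
  exact Nat.eq_of_beq_eq_true

theorem cval_0 : (countLt 2871 fun i => Nat.beq (at8 clsNum i) 0) = 1386 := by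
  have h := cls_sizes.1
  revert h
  generalize (countLt 2871 fun i => Nat.beq (at8 clsNum i) 0) = X
  exact Nat.eq_of_beq_eq_true

theorem cval_1 : (countLt 2871 fun i => Nat.beq (at8 clsNum i) 1) = 330 := by
  have h := cls_sizes.2.1
  revert h
  generalize (countLt 2871 fun i => Nat.beq (at8 clsNum i) 1) = X
  exact Nat.eq_of_beq_eq_true

theorem cval_2 : (countLt 2871 fun i => Nat.beq (at8 clsNum i) 2) = 1155 := by
  have h := cls_sizes.2.2
  revert h
  generalize (countLt 2871 fun i => Nat.beq (at8 clsNum i) 2) = X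
  exact Nat.eq_of_beq_eq_true

theorem vval_0 : (countLt 1771 fun i => Nat.beq (at2 vNum i) 0) = 231 := by
  have h := v_sizes.1
  revert h
  generalize (countLt 1771 fun i => Nat.beq (at2 vNum i) 0) = X
  exact Nat.eq_of_beq_eq_true

theorem vval_1 : (countLt 1771 fun i => Nat.beq (at2 vNum i) 1) = 1540 := by
  have h := v_sizes.2
  revert h
  generalize (countLt 1771 fun i => Nat.beq (at2 vNum i) 1) = X
  exact Nat.eq_of_beq_eq_true

theorem natRec_sum (a : ℕ) (f : ℕ → ℕ) : ∀ n,
    (Nat.rec (motive := fun _ => ℕ) a (fun i s => Nat.add s (f i)) n) = a + ∑ i ∈ Finset.range n, f i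
  | 0 => by simp
  | n + 1 => by
    show Nat.add _ (f n) = _
    rw [natRec_sum a f n, Finset.sum_range_succ, ← Nat.add_assoc]
    rfl

theorem total_eq (o : Bool) (x : ℕ) :
    total o x = (xAt x).2.2.2.2 + ∑ i ∈ Finset.range 2871, rootCount o x (at8 (xRoot.getD x 0) i) := by
  unfold total
  generalize (2871 : ℕ) = n
  exact natRec_sum _ _ n

/-- A bijection of an initial segment given by two packed lists. -/
theorem sum_reindex {n : ℕ} {ord pos : ℕ → ℕ} (h1 : ∀ i < n, ord i < n) (h2 : ∀ i < n, pos i < n)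
    (h3 : ∀ i < n, ord (pos i) = i) (f : ℕ → ℕ) :
    ∑ i ∈ Finset.range n, f (ord i) = ∑ i ∈ Finset.range n, f i := by
  classical
  have e : (Finset.range n).image ord = Finset.range n := by
    refine Finset.Subset.antisymm (fun x hx => ?_) fun i hi => ?_
    · obtain ⟨i, hi, rfl⟩ := Finset.mem_image.1 hx
      exact Finset.mem_range.2 (h1 i (Finset.mem_range.1 hi))
    · exact Finset.mem_image.2 ⟨pos i, Finset.mem_range.2 (h2 i (Finset.mem_range.1 hi)), h3 i (Finset.mem_range.1 hi)⟩
  have hinj := Finset.card_image_iff.1 (congrArg Finset.card e)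
  conv_rhs => rw [← e]
  rw [Finset.sum_image hinj]

theorem sum_image_product {α : Type*} [DecidableEq α] (K N : ℕ) (e : ℕ × ℕ → α)
    (h : Set.InjOn e ↑(Finset.range K ×ˢ Finset.range N)) (f : α → ℕ) :
    ∑ g ∈ (Finset.range K ×ˢ Finset.range N).image e, f g =
      ∑ k ∈ Finset.range K, ∑ n ∈ Finset.range N, f (e (k, n)) := by
  rw [Finset.sum_image h, Finset.sum_product]

end Dual

variable {G : Type*} [Group G] [Finite G]

namespace HexBase

variable {S : Setting G} (B : HexBase S)

attribute [local instance 10] Classical.propDecidable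

/-- The second member of a pair. -/
def Second (a b : G) : Prop := IsConj B.duadRep b ∧ B.duadRep ∈ Subgroup.zpowers (a * b)

/-- The indicator of the second members. -/
noncomputable def ind (a b : G) : ℕ := if B.Second a b then 1 else 0

/-- The number of second members. -/
noncomputable def cnt (a : G) : ℕ := Nat.card {b : G // B.Second a b}

/-- The number of pairs with given first member. -/
noncomputable def wt (a : G) : ℕ :=
  if IsConj S.z a ∧ a ∈ Subgroup.centralizer ({B.duadRep} : Set G) then B.cnt a else 0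

theorem sum_conj {α : Type*} [Fintype α] [Group α] (g : α) (f : α → ℕ) : ∑ b, f (g * b * g⁻¹) = ∑ b, f b :=
  Equiv.sum_comp (MulAut.conj g).toEquiv f

theorem isConj_conj_iff {w x : G} (g : G) : IsConj w (g * x * g⁻¹) ↔ IsConj w x :=
  ⟨fun h => h.trans (isConj_iff.2 ⟨g, rfl⟩).symm, fun h => h.trans (isConj_iff.2 ⟨g, rfl⟩)⟩

theorem second_conj {g : G} (hg : g ∈ Subgroup.centralizer ({B.duadRep} : Set G)) (a b : G) :
    B.Second (g * a * g⁻¹) (g * b * g⁻¹) ↔ B.Second a b := by
  rw [Subgroup.mem_centralizer_singleton_iff] at hg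
  have ht : g * B.duadRep * g⁻¹ = B.duadRep := mul_inv_eq_iff_eq_mul.2 hg
  rw [Second, Second, isConj_conj_iff, show g * a * g⁻¹ * (g * b * g⁻¹) = g * (a * b) * g⁻¹ by group]
  refine and_congr_right fun _ => ?_
  conv_lhs => rw [← ht]
  simp only [Subgroup.mem_zpowers_iff, conj_zpow, mul_left_inj, mul_right_inj]

theorem cnt_conj {g : G} (hg : g ∈ Subgroup.centralizer ({B.duadRep} : Set G)) (a : G) :
    B.cnt (g * a * g⁻¹) = B.cnt a :=
  (Nat.card_congr (Equiv.subtypeEquiv (MulAut.conj g).toEquiv fun b => (B.second_conj hg a b).symm)).symm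

theorem wt_conj {g : G} (hg : g ∈ Subgroup.centralizer ({B.duadRep} : Set G)) (a : G) :
    B.wt (g * a * g⁻¹) = B.wt a := by
  classical
  unfold wt
  rw [B.cnt_conj hg, isConj_conj_iff]
  by_cases h : a ∈ Subgroup.centralizer ({B.duadRep} : Set G)
  · simp only [h, mul_mem (mul_mem hg h) (inv_mem hg)]
  · have h' : g * a * g⁻¹ ∉ Subgroup.centralizer ({B.duadRep} : Set G) := fun e =>
      h (by simpa [mul_assoc] using mul_mem (mul_mem (inv_mem hg) e) hg)
    simp only [h, h']

theorem cnt_eq_sum [Fintype G] (a : G) : B.cnt a = ∑ b, B.ind a b := by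
  classical
  rw [cnt, Nat.card_eq_fintype_card, Fintype.card_subtype, Finset.card_eq_sum_ones, Finset.sum_filter]
  rfl

theorem sq_of_isConj {w a : G} (hw : w * w = 1) (h : IsConj w a) : a * a = 1 := by
  obtain ⟨g, rfl⟩ := isConj_iff.1 h
  rw [show g * w * g⁻¹ * (g * w * g⁻¹) = g * (w * w) * g⁻¹ by group, hw, mul_one, mul_inv_cancel]

theorem duadRep_sq : B.duadRep * B.duadRep = 1 := by rw [← pow_two]; exact B.V_elementary.2 _ B.duadRep_mem

theorem z_sq : S.z * S.z = 1 := by
  have h := pow_orderOf_eq_one S.z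
  rwa [S.orderOf_z, pow_two] at h

theorem centralizes_of_second {a b : G} (ha : a * a = 1) (h : B.Second a b) :
    a ∈ Subgroup.centralizer ({B.duadRep} : Set G) ∧ b ∈ Subgroup.centralizer ({B.duadRep} : Set G) := by
  obtain ⟨hb, i, hi⟩ := h
  have hi : (a * b) ^ i = B.duadRep := hi
  have hb' := sq_of_isConj B.duadRep_sq hb
  have hai : a⁻¹ = a := inv_eq_of_mul_eq_one_right ha
  have hbi : b⁻¹ = b := inv_eq_of_mul_eq_one_right hb'
  have hab : a * (a * b) * a⁻¹ = (a * b)⁻¹ := by
    rw [← mul_assoc, ha, one_mul, mul_inv_rev, hbi, hai]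
  have h1 : a * B.duadRep * a⁻¹ = B.duadRep := by
    rw [← hi, ← conj_zpow, hab, inv_zpow, hi, inv_eq_of_mul_eq_one_right B.duadRep_sq]
  have hac : a ∈ Subgroup.centralizer ({B.duadRep} : Set G) :=
    Subgroup.mem_centralizer_singleton_iff.2 (mul_inv_eq_iff_eq_mul.1 h1)
  have hm : a * b ∈ Subgroup.centralizer ({B.duadRep} : Set G) := by
    rw [Subgroup.mem_centralizer_singleton_iff, ← hi]
    exact ((Commute.refl (a * b)).zpow_right i).eq
  refine ⟨hac, ?_⟩
  rw [show b = a⁻¹ * (a * b) by group]
  exact mul_mem (inv_mem hac) hm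

theorem duadRep_isConj_iff [IsSimpleGroup G] (hG : ¬ IsMulCommutative G) (hJ : IsOfJankoFourType G) {b : G}
    (hb : orderOf b = 2) : IsConj B.duadRep b ↔ ¬ IsConj S.z b :=
  ⟨fun h hz => (B.duad_not_conj hG hJ (a := none) (b := some 0) (by simp)).2 (hz.trans h.symm),
    fun h => B.isConj_duadRep hG hJ hb h⟩

namespace TenBase

variable {B} (T : B.TenBase)

/-- The sum of a weight over the elements with given permutation. -/
noncomputable def row (f : G → ℕ) (σ : ↥M24) : ℕ := ∑ n ∈ Finset.range 2048, f (T.pr n σ)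

theorem lift_mem_centralizer [IsSimpleGroup G] (hG : ¬ IsMulCommutative G) (hJ : IsOfJankoFourType G) {σ : ↥M24}
    (hσ : σ ∈ pairGroup) : T.lift σ ∈ Subgroup.centralizer ({B.duadRep} : Set G) :=
  (T.centralizes_iff hG hJ).2 ⟨0, by norm_num, σ, hσ, by rw [pr, B.vel_zero, one_mul]⟩

theorem row_conj_map (f : G → ℕ) (g σ : ↥M24) :
    T.row (fun a => f (T.lift g * a * (T.lift g)⁻¹)) σ = T.row f (g * σ * g⁻¹) := by
  refine Finset.sum_nbij' (fun n => B.act (T.lift g) n) (fun n => B.act (T.lift g⁻¹) n) ?_ ?_ ?_ ?_ ?_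
  · exact fun n _ => Finset.mem_range.2 (B.act_lt _ _)
  · exact fun n _ => Finset.mem_range.2 (B.act_lt _ _)
  · intro n hn
    show B.act (T.lift g⁻¹) (B.act (T.lift g) n) = n
    rw [← T.act_mul_lift _ _ (Finset.mem_range.1 hn), inv_mul_cancel, T.act_one (Finset.mem_range.1 hn)]
  · intro n hn
    show B.act (T.lift g) (B.act (T.lift g⁻¹) n) = n
    rw [← T.act_mul_lift _ _ (Finset.mem_range.1 hn), mul_inv_cancel, T.act_one (Finset.mem_range.1 hn)]
  · intro n hn
    show f _ = _
    rw [T.conj_pr (Finset.mem_range.1 hn)]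

theorem row_conj {f : G → ℕ} {g : ↥M24} (h : ∀ a, f (T.lift g * a * (T.lift g)⁻¹) = f a) (σ : ↥M24) :
    T.row f (g * σ * g⁻¹) = T.row f σ := by
  rw [← T.row_conj_map]; simp only [h]

include T in
theorem sum_split [Fintype G] [IsSimpleGroup G] (hG : ¬ IsMulCommutative G) (hJ : IsOfJankoFourType G) {f : G → ℕ}
    (hsupp : ∀ g, f g ≠ 0 → g ∈ Subgroup.centralizer ({B.duadRep} : Set G) ∧ g * g = 1) :
    ∑ g, f g = T.row f 1 + ∑ l ∈ Finset.range 2871, T.row f (inv' l) := by
  classical
  let σ : ℕ → ↥M24 := fun k => if k < 2871 then inv' k else 1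
  let e : ℕ × ℕ → G := fun x => T.pr x.2 (σ x.1)
  set D := Finset.range 2872 ×ˢ Finset.range 2048
  have hinj : Set.InjOn e ↑D := by
    rintro ⟨k, n⟩ hx ⟨k', n'⟩ hy h
    simp only [D, Finset.coe_product, Set.mem_prod, Finset.mem_coe, Finset.mem_range] at hx hy
    obtain ⟨rfl, hσ⟩ := T.pr_inj hx.2 hy.2 h
    refine Prod.ext ?_ rfl
    show k = k'
    simp only [σ] at hσ
    split_ifs at hσ with a b b
    · exact inv'_inj a b hσ
    · exact absurd hσ (inv'_spec a).2.2.2
    · exact absurd hσ.symm (inv'_spec b).2.2.2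
    · omega
  calc ∑ g, f g = ∑ g ∈ D.image e, f g := by
        refine (Finset.sum_subset (Finset.subset_univ _) fun g _ hg => ?_).symm
        by_contra h0
        obtain ⟨hC, h2⟩ := hsupp g h0
        obtain ⟨n, hn, τ, hτ, rfl⟩ := (T.centralizes_iff hG hJ).1 hC
        refine hg (Finset.mem_image.2 ?_)
        obtain ⟨hτ2, -⟩ := (T.sq_eq_one_iff hn τ).1 h2
        by_cases h1 : τ = 1
        · exact ⟨(2871, n), by simp [D, hn], by simp [e, σ, h1]⟩
        · obtain ⟨i, hi, rfl⟩ := exists_index hτ hτ2 h1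
          exact ⟨(i, n), by simp [D, hn]; omega, by simp [e, σ, hi]⟩
    _ = ∑ k ∈ Finset.range 2872, T.row f (σ k) := by
        exact Dual.sum_image_product 2872 2048 e hinj f
    _ = _ := by
        rw [show (2872 : ℕ) = 2871 + 1 from rfl, Finset.sum_range_succ, Nat.add_comm]
        refine congrArg₂ (· + ·) ?_ ?_
        · simp [σ]
        · exact Finset.sum_congr rfl fun k hk => by simp [σ, Finset.mem_range.1 hk]

theorem ind_supp [Fintype G] {a : G} (ha : a * a = 1) (b : G) (h : B.ind a b ≠ 0) :
    b ∈ Subgroup.centralizer ({B.duadRep} : Set G) ∧ b * b = 1 := by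
  classical
  rw [ind] at h
  split_ifs at h with hs
  · exact ⟨(B.centralizes_of_second ha hs).2, sq_of_isConj B.duadRep_sq hs.1⟩
  · exact absurd rfl h

theorem wt_supp (a : G) (h : B.wt a ≠ 0) :
    a ∈ Subgroup.centralizer ({B.duadRep} : Set G) ∧ a * a = 1 := by
  classical
  rw [wt] at h
  split_ifs at h with hs
  · exact ⟨hs.2, sq_of_isConj z_sq hs.1⟩
  · exact absurd rfl h

theorem row_rep {f : G → ℕ} (hsupp : ∀ g, f g ≠ 0 → g * g = 1) {c : ℕ} (hc : c < 3) :
    T.row f (rep c) = ∑ j ∈ Finset.range (repSize c), f (T.pr (repVec c j) (rep c)) := by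
  classical
  rw [row]
  calc _ = ∑ n ∈ (Finset.range (repSize c)).image (repVec c), f (T.pr n (rep c)) := by
        refine (Finset.sum_subset (fun x hx => ?_) fun n hn hni => ?_).symm
        · obtain ⟨j, hj, rfl⟩ := Finset.mem_image.1 hx
          exact Finset.mem_range.2 (repVec_facts hc (Finset.mem_range.1 hj)).1
        · by_contra h0
          have hf := ((T.sq_eq_one_iff (Finset.mem_range.1 hn) _).1 (hsupp _ h0)).2
          rw [T.act_rep hc (Finset.mem_range.1 hn)] at hf
          obtain ⟨j, hj, e⟩ := exists_repVec hc (Finset.mem_range.1 hn) hf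
          exact hni (Finset.mem_image.2 ⟨j, Finset.mem_range.2 hj, e⟩)
    _ = _ := Finset.sum_image fun i hi j hj h => repVec_inj hc (Finset.mem_range.1 hi) (Finset.mem_range.1 hj) h

theorem orderOf_pr_rep {c j : ℕ} (hc : c < 3) (hj : j < repSize c) : orderOf (T.pr (repVec c j) (rep c)) = 2 := by
  obtain ⟨i, hi, e⟩ := rep_index hc
  obtain ⟨-, -, r2, r1⟩ := inv'_spec hi
  obtain ⟨hn, hf⟩ := repVec_facts hc hj
  exact T.orderOf_pr hn (e ▸ r1) (e ▸ r2) ((T.act_rep hc hn).trans hf)

/-- The condition on the type rule. -/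
def Rule (o : Bool) : Prop := ∀ c < 3, ∀ j < repSize c,
  (IsConj S.z (T.pr (repVec c j) (rep c)) ↔ rule o c (Nat.testBit (repMask.getD c 0) j) = true)

/-- The data of an element. -/
theorem x_facts {x : ℕ} (he : elemOK x = true) :
    ∃ v k Pk d n, xAt x = (v, k, Pk, d, n) ∧ v < 2048 ∧ ofP k * ofP k = 1 ∧ ofP k ∈ pairGroup ∧
      ImgOK k Pk ∧ limg Pk v = v ∧ isAut k = true ∧ ordOK k d = true ∧ ∀ g < 3,
        ImgOK (xGen x g).1 (xGen x g).2 ∧ ofP (xGen x g).1 ∈ pairGroup ∧ isAut (xGen x g).1 = true ∧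
          ofP (xGen x g).1 * ofP k = ofP k * ofP (xGen x g).1 ∧ limg (xGen x g).2 v = v := by
  unfold elemOK at he
  obtain ⟨v, k, Pk, d, n, e⟩ : ∃ v k Pk d n, xAt x = (v, k, Pk, d, n) := ⟨_, _, _, _, _, rfl⟩
  rw [e] at he
  simp only [Bool.and_eq_true, Nat.blt_eq] at he
  obtain ⟨⟨⟨⟨⟨h1, h2⟩, h3⟩, h4⟩, h5⟩, h6⟩ := he
  obtain ⟨hk, hP, hkS⟩ := genOK_spec h1
  refine ⟨v, k, Pk, d, n, e, h3, eq_of_peq (σ := ofP k * ofP k) (τ := 1) ((ofP_rep hk).mul (ofP_rep hk)) Rep.one h2,
    hkS, hP, Nat.eq_of_beq_eq_true h4, hk, h5, fun g hg => ?_⟩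
  have h := forallLt_elim h6 hg
  simp only [Bool.and_eq_true] at h
  obtain ⟨⟨a, b⟩, c⟩ := h
  obtain ⟨ha, hb, hc⟩ := genOK_spec a
  exact ⟨hb, hc, ha, mul_comm_of_peq (ofP_rep ha) (ofP_rep hk) (ofP_rep hk) (ofP_rep ha) b, Nat.eq_of_beq_eq_true c⟩

/-- The first member with the given data. -/
noncomputable def xel (x : ℕ) : G := T.pr (xAt x).1 (ofP (xAt x).2.1)

set_option maxHeartbeats 1000000 in
theorem cnt_x [IsSimpleGroup G] (hG : ¬ IsMulCommutative G) (hJ : IsOfJankoFourType G) {o : Bool} (ho : T.Rule o)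
    {x : ℕ} (he : elemOK x = true) (ht : treeOK x = true) (hr : rootsOK x = true) (hi : identOK x = true) :
    B.cnt (T.xel x) = total o x := by
  classical
  haveI : Fintype G := Fintype.ofFinite G
  obtain ⟨v, k, Pk, d, nI, e, hv, hk2, hkS, hP, hvf, hka, hd, hgen⟩ := x_facts he
  have hxel : T.xel x = T.pr v (ofP k) := by rw [xel, e]
  rw [hxel]
  set a := T.pr v (ofP k) with ha
  have hactk : ∀ n < 2048, B.act (T.lift (ofP k)) n = limg Pk n := fun n hn => T.act_ofP hP hn
  have ha2 : a * a = 1 := (T.sq_eq_one_iff hv _).2 ⟨hk2, (hactk v hv).trans hvf⟩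
  rw [B.cnt_eq_sum, T.sum_split hG hJ fun b hb => ind_supp ha2 b hb, total_eq, e]
  refine congrArg₂ (· + ·) ?_ ?_
  · -- the second members in `V`
    have h := hi
    unfold identOK at h
    rw [e] at h
    simp only at h
    revert h
    generalize hX : countLt 2048 _ = X
    intro h
    show _ = nI
    rw [← Nat.eq_of_beq_eq_true h, ← hX, countLt_eq, row, Finset.card_eq_sum_ones, Finset.sum_filter]
    refine Finset.sum_congr rfl fun u hu => ?_
    have hu' := Finset.mem_range.1 hu
    rw [T.pr_one, ind]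
    refine if_congr ?_ rfl rfl
    obtain ⟨-, hD, -⟩ := B.duads_spec hG hJ
    rw [Second, Bool.and_eq_true, show a * B.vel u = T.pr v (ofP k) * T.pr u 1 by rw [T.pr_one],
      T.pr_mul hu', mul_one, hactk u hu']
    refine and_congr ?_ (T.mem_zpowers_iff hactk (Nat.xor_lt_two_pow (n := 11) hv (hactk u hu' ▸ B.act_lt _ _))
        (orderOf_of_ordOK (ofP_rep hka) hd))
    constructor
    · intro hc
      refine (hD u hu').2 ⟨fun e => ?_, fun hz => (B.duad_not_conj hG hJ (a := none) (b := some 0) (by simp)).2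
        ((show IsConj S.z (B.vel u) from hz).trans hc.symm)⟩
      rw [e, B.vel_zero] at hc
      exact (B.duad_not_conj hG hJ (a := none) (b := some 0) (by simp)).1 (isConj_one_left.1 hc)
    · intro hb
      obtain ⟨h0, hz⟩ := (hD u hu').1 hb
      refine B.isConj_duadRep hG hJ ?_ hz
      exact orderOf_eq_prime (by rw [pow_two, B.vel_sq])
        fun e => h0 (B.vel_inj hu' (by norm_num) (e.trans B.vel_zero.symm))
  · -- the others, along the trees
    set ord := fun i => at12 (xOrd.getD x 0) i with hord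
    set root := fun i => at8 (xRoot.getD x 0) i with hroot
    have htree : ∀ i < 2871, ord i < 2871 ∧ at12 (xPos.getD x 0) i < 2871 ∧
        ord (at12 (xPos.getD x 0) i) = i ∧ root i < (xRootData.getD x []).length := fun i hi => by
      have h := forallLt_elim ht hi
      simp only [Bool.and_eq_true, Nat.blt_eq] at h
      exact ⟨h.1.1.1.1, h.1.1.1.2, Nat.eq_of_beq_eq_true h.1.1.2, h.1.2⟩
    have hinv : ∀ g < 3, ∀ b, B.ind a (T.lift (ofP (xGen x g).1) * b * (T.lift (ofP (xGen x g).1))⁻¹) = B.ind a b := by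
      intro g hg b
      obtain ⟨gP, gS, ga, gk, gv⟩ := hgen g hg
      set c := ofP (xGen x g).1
      have hfix : T.lift c * a * (T.lift c)⁻¹ = a := by
        rw [ha, T.conj_pr hv, T.act_ofP gP hv, gv, show c * ofP k * c⁻¹ = ofP k by rw [gk, mul_inv_cancel_right]]
      have h := B.second_conj (T.lift_mem_centralizer hG hJ gS) a b
      rw [hfix] at h
      rw [ind, ind]
      exact if_congr h rfl rfl
    have key : ∀ i < 2871, T.row (B.ind a) (inv' (ord i)) = rootCount o x (root i) := by
      intro i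
      induction i using Nat.strong_induction_on with
      | _ i ih =>
        intro hi
        obtain ⟨hoi, -, -, hrl⟩ := htree i hi
        have h := forallLt_elim ht hi
        simp only [Bool.and_eq_true, Nat.blt_eq] at h
        have h5 := h.2
        cases hb : Nat.beq (parOf (at16 (xPar.getD x 0) i)) i
        · rw [hb] at h5
          simp only [Bool.false_eq_true, if_false, Bool.and_eq_true, Nat.blt_eq] at h5
          obtain ⟨⟨⟨hp, hg⟩, hrt⟩, hpm⟩ := h5
          obtain ⟨gP, gS, ga, gk, gv⟩ := hgen _ hg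
          set p := parOf (at16 (xPar.getD x 0) i)
          set g := ofP (xGen x (genOf (at16 (xPar.getD x 0) i))).1
          have hp' : p < 2871 := lt_trans hp hi
          have hc : g * inv' (ord p) * g⁻¹ = inv' (ord i) :=
            mul_inv_eq_iff_eq_mul.2 (mul_comm_of_peq (ofP_rep ga) (inv'_spec (htree p hp').1).1 (inv'_spec hoi).1 (ofP_rep ga) hpm)
          rw [← hc, T.row_conj (hinv _ hg), ih p hp hp']
          exact congrArg _ (Nat.eq_of_beq_eq_true hrt)
        · rw [hb] at h5
          simp only [if_true] at h5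
          have h' := hr
          unfold rootsOK at h'
          rw [e] at h'
          have hroot' := forallLt_elim h' hrl
          obtain ⟨i0, ci, c, Pc, Pl, d', nA, nB, er⟩ :
              ∃ i0 ci c Pc Pl d' nA nB, rootAt x (root i) = (i0, ci, c, Pc, Pl, d', nA, nB) :=
            ⟨_, _, _, _, _, _, _, _, rfl⟩
          have er' : rootAt x (at8 (xRoot.getD x 0) i) = (i0, ci, c, Pc, Pl, d', nA, nB) := er
          rw [er'] at h5
          rw [er] at hroot'
          have hi0 : ord i = i0 := Nat.eq_of_beq_eq_true h5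
          simp only [Bool.and_eq_true, Nat.blt_eq] at hroot'
          obtain ⟨⟨⟨⟨⟨⟨⟨hl, hci⟩, hcA⟩, hlA⟩, hcr⟩, hord'⟩, hA⟩, hB⟩ := hroot'
          obtain ⟨hca, hcP⟩ := autOK_spec hcA
          obtain ⟨hla, hlP⟩ := autOK_spec hlA
          have hsig : ofP c * rep ci * (ofP c)⁻¹ = inv' i0 :=
            mul_inv_eq_iff_eq_mul.2 (mul_comm_of_peq (ofP_rep hca) (rep_spec hci).1 (inv'_spec hl).1 (ofP_rep hca) hcr)
          have hprod : orderOf (ofP k * inv' i0) = d' :=
            orderOf_of_ordOK (σ := ofP k * inv' i0) ((ofP_rep hka).mul (inv'_spec hl).1) hord'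
          have hf : ∀ n < 2048, B.act (T.lift (ofP k * inv' i0)) n = limg Pk (limg Pl n) := fun n hn => by
            rw [T.act_mul_lift _ _ hn, show B.act (T.lift (inv' i0)) n = limg Pl n from T.act_ofP hlP hn]
            exact hactk _ (T.act_ofP hlP hn ▸ B.act_lt _ _)
          rw [hi0, ← hsig, ← T.row_conj_map, T.row_rep (fun g hg => by
            have h2 := (ind_supp ha2 _ hg).2
            rw [show T.lift (ofP c) * g * (T.lift (ofP c))⁻¹ * (T.lift (ofP c) * g * (T.lift (ofP c))⁻¹) =
              T.lift (ofP c) * (g * g) * (T.lift (ofP c))⁻¹ by group, mul_inv_eq_one] at h2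
            exact mul_left_cancel (h2.trans (mul_one _).symm)) hci]
          have hterm : ∀ j < repSize ci, B.ind a (T.lift (ofP c) * T.pr (repVec ci j) (rep ci) * (T.lift (ofP c))⁻¹) =
              if (!rule o ci (Nat.testBit (repMask.getD ci 0) j) && Nat.beq (prodCode v Pk Pl Pc d' ci j) dualCode) = true
              then 1 else 0 := by
            intro j hj
            obtain ⟨hn, -⟩ := repVec_facts hci hj
            rw [ind]
            refine if_congr ?_ rfl rfl
            rw [Second, Bool.and_eq_true, B.duadRep_isConj_iff hG hJ ((CfsgLib.Signalizer.orderOf_of_isConj (isConj_iff.2 ⟨T.lift (ofP c), rfl⟩)).trans (T.orderOf_pr_rep hci hj)),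
              HexBase.isConj_conj_iff, ho ci hci j hj, Bool.not_eq_true']
            refine and_congr (by simp) ?_
            have hn' : limg Pc (repVec ci j) < 2048 := T.act_ofP hcP hn ▸ B.act_lt _ _
            have hn'' : limg Pk (limg Pc (repVec ci j)) < 2048 := hactk _ hn' ▸ B.act_lt _ _
            rw [T.conj_pr hn, hsig, T.act_ofP hcP hn, ha, T.pr_mul hn', hactk _ hn']
            exact T.mem_zpowers_iff hf (Nat.xor_lt_two_pow (n := 11) hv hn'') hprod
          rw [Finset.sum_congr rfl fun j hj => hterm j (Finset.mem_range.1 hj), ← Finset.sum_filter,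
            ← Finset.card_eq_sum_ones, ← countLt_eq]
          show _ = rootCount o x (at8 (xRoot.getD x 0) i)
          simp only [rootCount, er']
          simp only [rule]
          cases hflag : (Nat.beq ci 0 && !o)
          · simp only [Bool.false_eq_true, if_false]
            exact Nat.eq_of_beq_eq_true hB
          · simp only [if_true, Bool.not_not]
            exact Nat.eq_of_beq_eq_true hA
    rw [← sum_reindex (fun i hi => (htree i hi).1) (fun i hi => (htree i hi).2.1) (fun i hi => (htree i hi).2.2.1)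
      (fun l => T.row (B.ind a) (inv' l))]
    exact Finset.sum_congr rfl fun i hi => key i (Finset.mem_range.1 hi)

theorem xel_eq {x v : ℕ} {p : ℕ} {σ : ↥M24} (hx : x < 6) (hv : [1, 12, 0, 2, 0, 0].getD x 0 = v)
    (hp : [pone, pone, repPerms.getD 0 0, repPerms.getD 0 0, repPerms.getD 1 0, repPerms.getD 2 0].getD x 0 = p)
    (he : elemOK x = true) (hσ : Rep σ.1 p) : T.xel x = T.pr v σ := by
  obtain ⟨w, k, Pk, d, n, e, -, -, -, -, -, hka, -⟩ := x_facts he
  have h := forallLt_elim x_ok hx
  rw [e] at h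
  simp only [Bool.and_eq_true] at h
  rw [hv, hp] at h
  rw [xel, e]
  show T.pr w (ofP k) = T.pr v σ
  rw [Nat.eq_of_beq_eq_true h.1, eq_of_peq (ofP_rep hka) hσ h.2]

theorem cnt_vel [IsSimpleGroup G] (hG : ¬ IsMulCommutative G) (hJ : IsOfJankoFourType G) {o : Bool} (ho : T.Rule o) :
    B.cnt (B.vel 1) = 1 ∧ B.cnt (B.vel 12) = 2688 := by
  have h0 := T.cnt_x hG hJ ho elem_0 tree_0 roots_0 ident_0
  have h1 := T.cnt_x hG hJ ho elem_1 tree_1 roots_1 ident_1
  rw [T.xel_eq (v := 1) (σ := 1) (p := pone) (by norm_num) rfl rfl elem_0 Rep.one, T.pr_one] at h0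
  rw [T.xel_eq (v := 12) (σ := 1) (p := pone) (by norm_num) rfl rfl elem_1 Rep.one, T.pr_one] at h1
  rw [h0, h1]
  cases o
  · exact ⟨tval_0_false, tval_1_false⟩
  · exact ⟨tval_0_true, tval_1_true⟩

theorem cnt_rep [IsSimpleGroup G] (hG : ¬ IsMulCommutative G) (hJ : IsOfJankoFourType G) {o : Bool} (ho : T.Rule o)
    {c j : ℕ} (hc : c < 3) (hj : j < repSize c) (hr : rule o c (Nat.testBit (repMask.getD c 0) j) = true) :
    B.cnt (T.pr (repVec c j) (rep c)) = [26241, 44368, 7681].getD c 0 := by
  have hshift : ∀ {v}, v < 2048 → (∃ u < 2048, Nat.xor u (limg (repImgs.getD c 0) u) = Nat.xor v (repVec c j)) →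
      B.cnt (T.pr (repVec c j) (rep c)) = B.cnt (T.pr v (rep c)) := by
    rintro v hv ⟨u, hu, eu⟩
    have hV : B.vel u ∈ Subgroup.centralizer ({B.duadRep} : Set G) :=
      Subgroup.mem_centralizer_singleton_iff.2 (B.commute_V (B.vel_mem hu) B.duadRep_mem).eq
    rw [← B.cnt_conj hV (T.pr v (rep c)), T.conj_vel hu, T.act_rep hc hu, eu,
      show Nat.xor v (Nat.xor v (repVec c j)) = repVec c j by
        show v ^^^ (v ^^^ repVec c j) = repVec c j
        rw [← Nat.xor_assoc, Nat.xor_self, Nat.zero_xor]]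
  by_cases hfree : c = 0 ∧ o = false
  · obtain ⟨rfl, rfl⟩ := hfree
    have hm : Nat.testBit (repMask.getD 0 0) j = false := by simpa [rule] using hr
    have h2 := two_free
    rw [Bool.and_eq_true, Bool.not_eq_true'] at h2
    obtain ⟨j2, hj2, e2⟩ := exists_repVec hc (show (2 : ℕ) < 2048 by norm_num) (Nat.eq_of_beq_eq_true h2.1)
    have hm2 : Nat.testBit (repMask.getD 0 0) j2 = false := Bool.eq_false_iff.2 fun hb => by
      obtain ⟨u, hu, eu⟩ := (mask_iff hc hj2).1 hb
      have h' := forallLt_elim (forallLt_elim rep_image hc) hu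
      rw [eu, e2, h2.2] at h'
      exact Bool.noConfusion h'
    have hsize : repSize 0 = 64 := by decide +kernel
    have hx := forallLt_elim (forallLt_elim rep_coset (hsize ▸ hj2)) (hsize ▸ hj)
    rw [hm, hm2, beq_self_eq_true, Bool.not_true, Bool.false_or] at hx
    obtain ⟨u, hu, eu⟩ := (mask_iff hc (Nat.xor_lt_two_pow (n := repDims.getD 0 0) hj2 hj)).1 hx
    rw [hshift (v := 2) (by norm_num) ⟨u, hu, by
        rw [eu, repVec_xor, e2]; rfl⟩]
    have h3 := T.cnt_x hG hJ ho elem_3 tree_3 roots_3 ident_3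
    rw [T.xel_eq (v := 2) (σ := rep 0) (p := repPerms.getD 0 0) (by norm_num) rfl rfl elem_3 (rep_spec (by norm_num)).1] at h3
    rw [h3]
    exact tval_3_false
  · have hm : Nat.testBit (repMask.getD c 0) j = true := by
      rw [rule, show (Nat.beq c 0 && !o) = false by
        rcases Classical.em (c = 0) with rfl | h
        · cases o
          · exact absurd ⟨rfl, rfl⟩ hfree
          · rfl
        · rw [show Nat.beq c 0 = false from Bool.eq_false_iff.2 fun e => h (Nat.eq_of_beq_eq_true e), Bool.false_and]] at hr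
      simpa using hr
    obtain ⟨u, hu, eu⟩ := (mask_iff hc hj).1 hm
    rw [hshift (v := 0) (by norm_num) ⟨u, hu, by rw [eu]; exact (Nat.zero_xor _).symm⟩]
    interval_cases c
    · have ho' : o = true := by cases o <;> simp_all
      subst ho'
      have h2 := T.cnt_x hG hJ ho elem_2 tree_2 roots_2 ident_2
      rw [T.xel_eq (v := 0) (σ := rep 0) (p := repPerms.getD 0 0) (by norm_num) rfl rfl elem_2 (rep_spec (by norm_num)).1] at h2
      rw [h2]
      exact tval_2_true
    · have h4 := T.cnt_x hG hJ ho elem_4 tree_4 roots_4 ident_4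
      rw [T.xel_eq (v := 0) (σ := rep 1) (p := repPerms.getD 1 0) (by norm_num) rfl rfl elem_4 (rep_spec (by norm_num)).1] at h4
      rw [h4]
      cases o
      exacts [tval_4_false, tval_4_true]
    · have h5 := T.cnt_x hG hJ ho elem_5 tree_5 roots_5 ident_5
      rw [T.xel_eq (v := 0) (σ := rep 2) (p := repPerms.getD 2 0) (by norm_num) rfl rfl elem_5 (rep_spec (by norm_num)).1] at h5
      rw [h5]
      cases o
      exacts [tval_5_false, tval_5_true]

theorem row_wt_rep [IsSimpleGroup G] (hG : ¬ IsMulCommutative G) (hJ : IsOfJankoFourType G) {o : Bool} (ho : T.Rule o)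
    {c : ℕ} (hc : c < 3) : T.row B.wt (rep c) = [32 * 26241, 16 * 44368, 16 * 7681].getD c 0 := by
  classical
  rw [T.row_rep (fun g hg => (wt_supp g hg).2) hc,
    Finset.sum_congr rfl (g := fun j => if rule o c (Nat.testBit (repMask.getD c 0) j) = true then
      [26241, 44368, 7681].getD c 0 else 0) fun j hj => by
      have hj' := Finset.mem_range.1 hj
      by_cases hr : rule o c (Nat.testBit (repMask.getD c 0) j) = true
      · rw [if_pos hr, wt, if_pos ⟨(ho c hc j hj').2 hr,
          (T.centralizes_iff hG hJ).2 ⟨_, (repVec_facts hc hj').1, _, (rep_spec hc).2.2, rfl⟩⟩, T.cnt_rep hG hJ ho hc hj' hr]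
      · rw [if_neg hr, wt, if_neg fun h => hr ((ho c hc j hj').1 h.1)],
    ← Finset.sum_filter, Finset.sum_const, smul_eq_mul]
  have hrule : ((Finset.range (repSize c)).filter fun j => rule o c (Nat.testBit (repMask.getD c 0) j) = true).card =
      [32, 16, 16].getD c 0 := by
    have hcount := Nat.eq_of_beq_eq_true (forallLt_elim rep_counts hc)
    rw [countLt_eq] at hcount
    by_cases hflag : (Nat.beq c 0 && !o) = true
    · obtain ⟨hc0, -⟩ := Bool.and_eq_true_iff.1 hflag
      obtain rfl := Nat.eq_of_beq_eq_true hc0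
      have hsum := Finset.card_filter_add_card_filter_not (s := Finset.range (repSize 0))
        (fun j => Nat.testBit (repMask.getD 0 0) j = true)
      rw [hcount, Finset.card_range, show repSize 0 = 64 by decide +kernel] at hsum
      rw [show repSize 0 = 64 by decide +kernel] at hcount ⊢
      simp only [rule, hflag, if_true, Bool.not_eq_true']
      simp only [Nat.beq_refl, if_true] at hsum hcount
      simp only [Bool.not_eq_true] at hsum
      show _ = 32
      omega
    · simp only [rule, hflag, Bool.false_eq_true, if_false]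
      rw [hcount]
      interval_cases c <;> rfl
  rw [hrule]
  interval_cases c <;> rfl

theorem row_wt_V [IsSimpleGroup G] (hG : ¬ IsMulCommutative G) (hJ : IsOfJankoFourType G) {o : Bool} (ho : T.Rule o) :
    T.row B.wt 1 = 231 * 1 + 1540 * 2688 := by
  classical
  obtain ⟨-, hD, -⟩ := B.duads_spec hG hJ
  obtain ⟨c0, c1⟩ := T.cnt_vel hG hJ ho
  have hC : ∀ {n}, n < 2048 → B.vel n ∈ Subgroup.centralizer ({B.duadRep} : Set G) := fun {n} hn =>
    Subgroup.mem_centralizer_singleton_iff.2 (B.commute_V (B.vel_mem hn) B.duadRep_mem).eq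
  have hz : ∀ {n}, n < 2048 → (IsConj S.z (B.vel n) ↔ (!Nat.beq n 0 && !Nat.testBit dMask n) = true) := by
    intro n hn
    rw [Bool.and_eq_true, Bool.not_eq_true', Bool.not_eq_true']
    constructor
    · intro h
      refine ⟨Bool.eq_false_iff.2 fun e => ?_, Bool.eq_false_iff.2 fun e => ((hD n hn).1 e).2 h⟩
      rw [Nat.eq_of_beq_eq_true e] at h
      exact B.isZc_zero h
    · rintro ⟨h0, hd⟩
      by_contra hne
      rw [(hD n hn).2 ⟨fun e => by subst e; simp at h0, hne⟩] at hd
      exact Bool.noConfusion hd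
  set ord := fun i => pick vOrd i
  have hv : ∀ i < 1771, ord i < 2048 ∧ (!Nat.beq (ord i) 0 && !Nat.testBit dMask (ord i)) = true ∧
      at2 vNum i < 2 ∧ pick vPos (ord i) = i := fun i hi => by
    have h := forallLt_elim v_tree hi
    simp only [Bool.and_eq_true, Nat.blt_eq] at h
    exact ⟨h.1.1.1, h.1.1.2, h.1.2, Nat.eq_of_beq_eq_true (forallLt_elim v_injective hi)⟩
  have hcase : ∀ i < 1771, B.cnt (B.vel (ord i)) = [1, 2688].getD (at2 vNum i) 0 := by
    intro i
    induction i using Nat.strong_induction_on with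
    | _ i ih =>
      intro hi
      have h := forallLt_elim v_tree hi
      simp only [Bool.and_eq_true, Nat.blt_eq] at h
      have h3 := h.2
      cases hb : Nat.beq i (vStart (at2 vNum i))
      · rw [hb] at h3
        simp only [Bool.false_eq_true, if_false, Bool.and_eq_true, Nat.blt_eq] at h3
        obtain ⟨⟨⟨hp, hg⟩, hn⟩, hl⟩ := h3
        set p := parOf (at16 vPar i)
        set g : Fin 3 := ⟨genOf (at16 vPar i), hg⟩
        obtain ⟨-, gP, gS⟩ := gen_spec g
        have hlim : limg (genImgs.getD (genOf (at16 vPar i)) 0) (ord p) = ord i := Nat.eq_of_beq_eq_true hl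
        have hact : B.act (T.lift (Dual.gen g)) (ord p) = ord i := (T.act_ofP gP (hv p (by omega)).1).trans hlim
        rw [← Nat.eq_of_beq_eq_true hn, ← ih p hp (by omega),
          ← B.cnt_conj (T.lift_mem_centralizer hG hJ gS) (B.vel (ord p)),
          ← T.pr_one (ord p), T.conj_pr (hv p (by omega)).1, mul_one, mul_inv_cancel, hact, T.pr_one]
      · rw [hb] at h3
        simp only [if_true] at h3
        rw [show ord i = _ from Nat.eq_of_beq_eq_true h3]
        have hlt := (hv i hi).2.2.1
        generalize at2 vNum i = c at hlt ⊢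
        interval_cases c
        exacts [c0, c1]
  calc T.row B.wt 1 = ∑ n ∈ (Finset.range 1771).image ord, B.wt (T.pr n 1) := by
        refine (Finset.sum_subset (fun x hx => ?_) fun n hn hni => ?_).symm
        · obtain ⟨i, hi, rfl⟩ := Finset.mem_image.1 hx
          exact Finset.mem_range.2 (hv i (Finset.mem_range.1 hi)).1
        · rw [T.pr_one, wt, if_neg fun h => ?_]
          have hb := (hz (Finset.mem_range.1 hn)).1 h.1
          have hc := forallLt_elim v_cover (Finset.mem_range.1 hn)
          simp only [Bool.or_eq_true, Bool.and_eq_true, Nat.blt_eq] at hc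
          rcases hc with hc | ⟨hp, he⟩
          · rw [Bool.not_eq_true'] at hc
            exact absurd (hb.symm.trans hc) (by simp)
          · exact hni (Finset.mem_image.2 ⟨_, Finset.mem_range.2 hp, Nat.eq_of_beq_eq_true he⟩)
    _ = ∑ i ∈ Finset.range 1771, B.wt (T.pr (ord i) 1) := Finset.sum_image fun i hi j hj h => by
        rw [← (hv i (Finset.mem_range.1 hi)).2.2.2, h, (hv j (Finset.mem_range.1 hj)).2.2.2]
    _ = ∑ i ∈ Finset.range 1771, [1, 2688].getD (at2 vNum i) 0 := Finset.sum_congr rfl fun i hi => by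
        have hi' := Finset.mem_range.1 hi
        rw [T.pr_one, wt, if_pos ⟨(hz (hv i hi').1).2 (hv i hi').2.1, hC (hv i hi').1⟩, hcase i hi']
    _ = _ := by
        rw [Finset.sum_congr rfl (g := fun i =>
            (if Nat.beq (at2 vNum i) 0 = true then 1 else 0) + (if Nat.beq (at2 vNum i) 1 = true then 2688 else 0))
            fun i hi => by
              have hlt := (hv i (Finset.mem_range.1 hi)).2.2.1
              generalize at2 vNum i = c at hlt ⊢
              interval_cases c <;> rfl,
          Finset.sum_add_distrib, ← Finset.sum_filter, ← Finset.sum_filter, Finset.sum_const, Finset.sum_const,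
          ← countLt_eq, ← countLt_eq, vval_0, vval_1]
        rfl

theorem row_wt_list [IsSimpleGroup G] (hG : ¬ IsMulCommutative G) (hJ : IsOfJankoFourType G) {o : Bool} (ho : T.Rule o) :
    ∑ l ∈ Finset.range 2871, T.row B.wt (inv' l) =
      1386 * (32 * 26241) + 330 * (16 * 44368) + 1155 * (16 * 7681) := by
  classical
  set ord := fun i => at12 clsOrd i
  have hc : ∀ i < 2871, ord i < 2871 ∧ at12 clsPos i < 2871 ∧ ord (at12 clsPos i) = i ∧ at8 clsNum i < 3 := fun i hi => by
    have h := forallLt_elim cls_tree hi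
    simp only [Bool.and_eq_true, Nat.blt_eq] at h
    exact ⟨h.1.1.1.1, h.1.1.1.2, Nat.eq_of_beq_eq_true h.1.1.2, h.1.2⟩
  have key : ∀ i < 2871, T.row B.wt (inv' (ord i)) = T.row B.wt (rep (at8 clsNum i)) := by
    intro i
    induction i using Nat.strong_induction_on with
    | _ i ih =>
      intro hi
      have h := forallLt_elim cls_tree hi
      simp only [Bool.and_eq_true, Nat.blt_eq] at h
      have h5 := h.2
      obtain ⟨hoi, -, -, h3⟩ := hc i hi
      cases hb : Nat.beq i (clsStart (at8 clsNum i))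
      · rw [hb] at h5
        simp only [Bool.false_eq_true, if_false, Bool.and_eq_true, Nat.blt_eq] at h5
        obtain ⟨⟨⟨hp, hg⟩, hn⟩, hpm⟩ := h5
        set g : Fin 3 := ⟨genOf (at16 clsPar i), hg⟩
        obtain ⟨gr, -, gS⟩ := gen_spec g
        have hp' : parOf (at16 clsPar i) < 2871 := lt_trans hp hi
        have he : Dual.gen g * inv' (ord (parOf (at16 clsPar i))) * (Dual.gen g)⁻¹ = inv' (ord i) :=
          mul_inv_eq_iff_eq_mul.2 (mul_comm_of_peq gr (inv'_spec (hc _ hp').1).1 (inv'_spec hoi).1 gr hpm)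
        rw [← he, T.row_conj (fun a => B.wt_conj (T.lift_mem_centralizer hG hJ gS) a), ih _ hp hp',
          Nat.eq_of_beq_eq_true hn]
      · rw [hb] at h5
        simp only [if_true] at h5
        rw [eq_of_peq (inv'_spec hoi).1 (rep_spec h3).1 h5]
  rw [← sum_reindex (fun i hi => (hc i hi).1) (fun i hi => (hc i hi).2.1) (fun i hi => (hc i hi).2.2.1)
    (fun l => T.row B.wt (inv' l)), Finset.sum_congr rfl (g := fun i =>
      (if Nat.beq (at8 clsNum i) 0 = true then 32 * 26241 else 0) + (if Nat.beq (at8 clsNum i) 1 = true then 16 * 44368 else 0) +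
        (if Nat.beq (at8 clsNum i) 2 = true then 16 * 7681 else 0)) fun i hi => by
      rw [key i (Finset.mem_range.1 hi), T.row_wt_rep hG hJ ho (hc i (Finset.mem_range.1 hi)).2.2.2]
      have hlt := (hc i (Finset.mem_range.1 hi)).2.2.2
      generalize at8 clsNum i = c at hlt ⊢
      interval_cases c <;> rfl,
    Finset.sum_add_distrib, Finset.sum_add_distrib, ← Finset.sum_filter, ← Finset.sum_filter, ← Finset.sum_filter,
    Finset.sum_const, Finset.sum_const, Finset.sum_const, ← countLt_eq, ← countLt_eq, ← countLt_eq,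
    cval_0, cval_1, cval_2]
  rfl

end TenBase

/-- **The order of the centralizer of the second involution.** -/
theorem duad_centralizer_card [IsSimpleGroup G] (hG : ¬ IsMulCommutative G) (hJ : IsOfJankoFourType G) :
    B.DuadCentralizerCard := by
  obtain ⟨T⟩ := B.exists_tenBase hG hJ
  exact T.card_centralizer_duad hG hJ

/-- **The pairs whose product has the second involution among its powers.** -/
theorem duad_pair_count [IsSimpleGroup G] (hG : ¬ IsMulCommutative G) (hJ : IsOfJankoFourType G) :
    B.DuadPairCount := by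
  classical
  haveI : Fintype G := Fintype.ofFinite G
  obtain ⟨T⟩ := B.exists_tenBase hG hJ
  obtain ⟨o, ho⟩ := T.exists_rule hG hJ
  let e : CfsgLib.Signalizer.ClassPairs S.z B.duadRep B.duadRep ≃
      Σ a : G, {b : G // (IsConj S.z a ∧ a ∈ Subgroup.centralizer ({B.duadRep} : Set G)) ∧ B.Second a b} :=
    { toFun := fun p => ⟨p.1.1, p.1.2,
        ⟨p.2.1, (B.centralizes_of_second (sq_of_isConj z_sq p.2.1) p.2.2).1⟩, p.2.2⟩
      invFun := fun s => ⟨(s.1, s.2.1), s.2.2.1.1, s.2.2.2⟩
      left_inv := fun _ => rfl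
      right_inv := fun _ => rfl }
  have hw : ∀ a : G, Nat.card {b : G // (IsConj S.z a ∧ a ∈ Subgroup.centralizer ({B.duadRep} : Set G)) ∧ B.Second a b} =
      B.wt a := fun a => by
    rw [wt]
    split_ifs with h
    · exact Nat.card_congr (Equiv.subtypeEquivRight fun b => and_iff_right h)
    · have : IsEmpty {b : G // (IsConj S.z a ∧ a ∈ Subgroup.centralizer ({B.duadRep} : Set G)) ∧ B.Second a b} :=
        ⟨fun b => h b.2.1⟩
      exact Nat.card_of_isEmpty
  show Nat.card _ = _
  rw [Nat.card_congr e, Nat.card_sigma]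
  simp only [hw]
  rw [T.sum_split hG hJ (fun g hg => TenBase.wt_supp g hg), T.row_wt_V hG hJ ho, T.row_wt_list hG hJ ho]

end HexBase

end CfsgLib.JankoFour
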