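import Cfsg.Agent.Lib.JankoFourOrder.DualData
import Cfsg.Agent.Lib.JankoFourTen.Checks
import Cfsg.Agent.Lib.Sporadic.M24Data

/-!
# Checks on the involutions of the stabiliser of a pair (owner: helper14)
-/

set_option autoImplicit false
set_option maxRecDepth 100000

namespace CfsgLib.JankoFour.Dual

open Cfsg CfsgLib.Sporadic CfsgLib.JankoFourHexad CfsgLib.JankoFour.Ten
open CfsgLib.ThreeTrans.M24Inv (peq)

/-- Entry `i` of a packed list with the given width. -/
noncomputable def at12 (P i : ℕ) : ℕ := Nat.land (Nat.shiftRight P (Nat.mul 12 i)) 4095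

/-- Entry `i` of a packed list of width sixteen. -/
noncomputable def at16 (P i : ℕ) : ℕ := Nat.land (Nat.shiftRight P (Nat.mul 16 i)) 65535

/-- Entry `i` of a packed list of width eight. -/
noncomputable def at8 (P i : ℕ) : ℕ := Nat.land (Nat.shiftRight P (Nat.mul 8 i)) 255

/-- Entry `i` of a packed list of width two. -/
noncomputable def at2 (P i : ℕ) : ℕ := Nat.land (Nat.shiftRight P (Nat.mul 2 i)) 3

/-- The parent in a tree entry. -/
noncomputable def parOf (e : ℕ) : ℕ := Nat.shiftRight e 2

/-- The generator in a tree entry. -/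
noncomputable def genOf (e : ℕ) : ℕ := Nat.land e 3

/-- The involution with a given index. -/
noncomputable def invAt (i : ℕ) : ℕ :=
  Nat.land (Nat.shiftRight (invData.getD (Nat.shiftRight i 8) 0) (Nat.mul 120 (Nat.land i 255)))
    1329227995784915872903807060280344575

/-- An automorphism with the given action on codes, preserving the pair. -/
noncomputable def genOK (c P : ℕ) : Bool :=
  isAut c && forallLt 24 (fun j => Nat.beq (limg P (pcI 23 j)) (pcI (pget c 23) (pget c j))) &&
    ((Nat.beq (pget c 23) 23 && Nat.beq (pget c 0) 0) || (Nat.beq (pget c 23) 0 && Nat.beq (pget c 0) 23))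

/-- A product of the generators. -/
noncomputable def wordPerm : List ℕ → ℕ
  | [] => pone
  | j :: w => pmul (genPerms.getD j 0) (wordPerm w)

theorem gens_ok : forallLt 3 (fun j => genOK (genPerms.getD j 0) (genImgs.getD j 0)) = true := by decide +kernel

/-- The transversal elements fixing the pair, and the swap. -/
noncomputable def transAll : List ℕ :=
  m24Trans2 ++ m24Trans3 ++ m24Trans4 ++ m24Trans5 ++ m24Trans6 ++ [CfsgLib.ThreeTrans.M24Inv.swapPerm]

theorem words_ok : (Nat.beq genWords.length transAll.length &&
    (transAll.zip genWords).all (fun e => e.2.all (fun j => Nat.blt j 3) && peq (wordPerm e.2) e.1)) = true := by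
  decide +kernel

theorem inv_sorted : forallLt 2870 (fun i => Nat.blt (invAt i) (invAt (Nat.succ i))) = true := by decide +kernel

theorem inv_ok : forallLt 2871 (fun i => Nat.beq (pmul (invAt i) pone) (invAt i) &&
    peq (pmul (invAt i) (invAt i)) pone && !peq (invAt i) pone) = true := by decide +kernel

theorem inv_closed : forallLt 3 (fun j => forallLt 2871 fun i =>
    Nat.blt (at12 (genConj.getD j 0) i) 2871 &&
      peq (pmul (genPerms.getD j 0) (invAt i)) (pmul (invAt (at12 (genConj.getD j 0) i)) (genPerms.getD j 0))) = true := by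
  decide +kernel

/-- The root position of a class. -/
noncomputable def clsStart (c : ℕ) : ℕ := [0, 1386, 1716].getD c 0

theorem cls_tree : forallLt 2871 (fun i =>
    Nat.blt (at12 clsOrd i) 2871 && Nat.blt (at12 clsPos i) 2871 && Nat.beq (at12 clsOrd (at12 clsPos i)) i &&
      Nat.blt (at8 clsNum i) 3 &&
      if Nat.beq i (clsStart (at8 clsNum i)) then peq (invAt (at12 clsOrd i)) (repPerms.getD (at8 clsNum i) 0)
      else Nat.blt (parOf (at16 clsPar i)) i && Nat.blt (genOf (at16 clsPar i)) 3 &&
        Nat.beq (at8 clsNum (parOf (at16 clsPar i))) (at8 clsNum i) &&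
        peq (pmul (genPerms.getD (genOf (at16 clsPar i)) 0) (invAt (at12 clsOrd (parOf (at16 clsPar i)))))
          (pmul (invAt (at12 clsOrd i)) (genPerms.getD (genOf (at16 clsPar i)) 0))) = true := by
  decide +kernel

theorem cls_sizes : Nat.beq (countLt 2871 fun i => Nat.beq (at8 clsNum i) 0) 1386 = true ∧
    Nat.beq (countLt 2871 fun i => Nat.beq (at8 clsNum i) 1) 330 = true ∧
    Nat.beq (countLt 2871 fun i => Nat.beq (at8 clsNum i) 2) 1155 = true := by decide +kernel

/-- The number of fixed points of a representative is zero exactly for the first. -/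
theorem rep_ok : forallLt 3 (fun c => genOK (repPerms.getD c 0) (repImgs.getD c 0) &&
    (Nat.beq c 0 == forallLt 24 (fun x => !Nat.beq (pget (repPerms.getD c 0) x) x))) = true := by decide +kernel

/-- A fixed code of a representative from its index. -/
noncomputable def repVec (c j : ℕ) : ℕ :=
  xorComb (fun k => pick (repBasis.getD c 0) k) j (repDims.getD c 0)

/-- The number of fixed codes of a representative. -/
noncomputable def repSize (c : ℕ) : ℕ := Nat.pow 2 (repDims.getD c 0)

theorem rep_spaces : forallLt 3 (fun c => Nat.beq (repSize c) (if Nat.beq c 0 then 64 else 128) &&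
    forallLt (repSize c) (fun j =>
      Nat.blt (repVec c j) 2048 && Nat.beq (limg (repImgs.getD c 0) (repVec c j)) (repVec c j) &&
        (Nat.beq j 0 || !Nat.beq (repVec c j) 0) &&
        (if Nat.testBit (repMask.getD c 0) j then
          Nat.beq (Nat.xor (pick (repPre.getD c 0) j) (limg (repImgs.getD c 0) (pick (repPre.getD c 0) j))) (repVec c j)
        else !Nat.testBit (repImage.getD c 0) (repVec c j)))) = true := by decide +kernel

theorem rep_image : forallLt 3 (fun c => forallLt 2048 fun u =>
    Nat.testBit (repImage.getD c 0) (Nat.xor u (limg (repImgs.getD c 0) u))) = true := by decide +kernel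

theorem rep_counts : forallLt 3 (fun c =>
    Nat.beq (countLt (repSize c) fun j => Nat.testBit (repMask.getD c 0) j) (if Nat.beq c 0 then 32 else 16)) = true := by
  decide +kernel

theorem cen_one : (forallLt 24 fun x => cenOne.any fun e => Nat.beq e.1 x && isAut e.2 &&
    Nat.beq (pget e.2 23) x && peq (pmul e.2 (repPerms.getD 0 0)) (pmul (repPerms.getD 0 0) e.2)) = true := by
  decide +kernel

theorem cen_two : (forallLt 24 fun x => Nat.beq (pget (repPerms.getD 1 0) x) x || cenTwo.any fun e =>
    Nat.beq e.1 x && isAut e.2 && Nat.beq (pget e.2 23) x &&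
      peq (pmul e.2 (repPerms.getD 1 0)) (pmul (repPerms.getD 1 0) e.2)) = true := by decide +kernel

theorem cen_three : (forallLt 24 fun x => forallLt 24 fun y =>
    !(Nat.beq (pget (repPerms.getD 2 0) x) x && Nat.beq (pget (repPerms.getD 2 0) y) y) || Nat.beq x y ||
      cenThree.any fun e => Nat.beq e.1.1 x && Nat.beq e.1.2 y && isAut e.2 && Nat.beq (pget e.2 23) x &&
        Nat.beq (pget e.2 0) y && peq (pmul e.2 (repPerms.getD 2 0)) (pmul (repPerms.getD 2 0) e.2)) = true := by
  decide +kernel

theorem rep_pair : Nat.beq (pget (repPerms.getD 0 0) 23) 0 = true ∧ Nat.beq (pget (repPerms.getD 1 0) 23) 0 = true ∧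
    Nat.beq (pget (repPerms.getD 2 0) 23) 23 = true ∧ Nat.beq (pget (repPerms.getD 2 0) 0) 0 = true := by
  decide +kernel

/-- The root position of an orbit in `V`. -/
noncomputable def vStart (c : ℕ) : ℕ := [0, 231].getD c 0

theorem v_tree : forallLt 1771 (fun i =>
    (Nat.blt (pick vOrd i) 2048 && zBit (pick vOrd i) && Nat.blt (at2 vNum i) 2 &&
      if Nat.beq i (vStart (at2 vNum i)) then Nat.beq (pick vOrd i) ([1, 12].getD (at2 vNum i) 0)
      else Nat.blt (parOf (at16 vPar i)) i && Nat.blt (genOf (at16 vPar i)) 3 &&
        Nat.beq (at2 vNum (parOf (at16 vPar i))) (at2 vNum i) &&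
        Nat.beq (limg (genImgs.getD (genOf (at16 vPar i)) 0) (pick vOrd (parOf (at16 vPar i)))) (pick vOrd i))) = true := by
  decide +kernel

theorem v_cover : forallLt 2048 (fun v => !zBit v ||
    (Nat.blt (pick vPos v) 1771 && Nat.beq (pick vOrd (pick vPos v)) v)) = true := by decide +kernel

theorem v_injective : forallLt 1771 (fun i => Nat.beq (pick vPos (pick vOrd i)) i) = true := by decide +kernel

theorem v_sizes : Nat.beq (countLt 1771 fun i => Nat.beq (at2 vNum i) 0) 231 = true ∧
    Nat.beq (countLt 1771 fun i => Nat.beq (at2 vNum i) 1) 1540 = true := by decide +kernel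

end CfsgLib.JankoFour.Dual
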