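import Cfsg.Agent.Lib.JankoFourOrder.DualStab
import Cfsg.Agent.Lib.JankoFourTen.Types
import Cfsg.Agent.Lib.Signalizer.OrderFormula

/-!
# The centralizer of a duad element in coordinates (owner: helper14)
-/

set_option autoImplicit false
set_option linter.unusedSectionVars false
set_option maxRecDepth 100000

namespace CfsgLib.JankoFour

open Cfsg CfsgLib.Sporadic CfsgLib.Sporadic.Hexad22 CfsgLib.JankoFourHexad CfsgLib.JankoFour.Ten CfsgLib.JankoFour.Dual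
open CfsgLib.ThreeTrans.M24Inv (peq peq_iff)

namespace Dual

theorem ppow_rep {g : Equiv.Perm GolayPt} {p : ℕ} (h : Rep g p) : ∀ d, Rep (g ^ d) (ppow p d)
  | 0 => by rw [pow_zero]; exact Rep.one
  | d + 1 => by rw [pow_succ']; exact h.mul (ppow_rep h d)

theorem orderOf_of_ordOK {σ : ↥M24} {p d : ℕ} (h : Rep σ.1 p) (hd : ordOK p d = true) : orderOf σ = d := by
  simp only [ordOK, Bool.and_eq_true, Nat.blt_eq] at hd
  obtain ⟨⟨h0, h1⟩, h2⟩ := hd
  refine (orderOf_eq_iff h0).2 ⟨eq_of_peq (σ := σ ^ d) (τ := 1) (by simpa using ppow_rep h d) Rep.one h1, fun j hj hj0 e => ?_⟩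
  have := forallLt_elim h2 hj
  rw [show Nat.beq j 0 = false from Bool.eq_false_iff.2 fun e => by
      have := Nat.eq_of_beq_eq_true e; omega, Bool.false_or, Bool.not_eq_true'] at this
  rw [(peq_iff (ppow_rep h j) Rep.one).2 (by simpa using congrArg Subtype.val e)] at this
  exact Bool.noConfusion this

end Dual

variable {G : Type*} [Group G] [Finite G]

namespace HexBase

variable {S : Setting G} (B : HexBase S)

namespace TenBase

variable {B} (T : B.TenBase)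

/-- The element with given code and permutation. -/
noncomputable def pr (n : ℕ) (σ : ↥M24) : G := B.vel n * T.lift σ

theorem pr_mem {n : ℕ} (hn : n < 2048) (σ : ↥M24) : T.pr n σ ∈ B.NV :=
  mul_mem (Subgroup.le_normalizer (B.vel_mem hn)) (T.lift_mem σ)

theorem pr_one (n : ℕ) : T.pr n 1 = B.vel n := by rw [pr, map_one, mul_one]

theorem pr_inj {n m : ℕ} {σ τ : ↥M24} (hn : n < 2048) (hm : m < 2048) (h : T.pr n σ = T.pr m τ) : n = m ∧ σ = τ := by
  have key : ∀ {n} (hn : n < 2048) (σ : ↥M24), T.Φ ⟨T.pr n σ, T.pr_mem hn σ⟩ = σ := fun {n} hn σ => by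
    rw [show (⟨T.pr n σ, T.pr_mem hn σ⟩ : ↥B.NV) = ⟨B.vel n, Subgroup.le_normalizer (B.vel_mem hn)⟩ * ⟨T.lift σ, T.lift_mem σ⟩
      from rfl, map_mul, (T.hker ⟨B.vel n, _⟩).2 (B.vel_mem hn), one_mul, T.phi_lift]
  have e : σ = τ := by
    rw [← key hn σ, ← key hm τ]
    exact congrArg T.Φ (Subtype.ext h)
  subst e
  exact ⟨B.vel_inj hn hm (mul_right_cancel h), rfl⟩

theorem exists_pr {g : G} (hg : g ∈ B.NV) : ∃ n < 2048, ∃ σ : ↥M24, T.pr n σ = g := by
  obtain ⟨v, hv, e⟩ := T.exists_split_lift hg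
  obtain ⟨n, hn, rfl⟩ := hv
  exact ⟨n, hn, _, e.symm⟩

theorem act_ofP {c P : ℕ} (hP : ImgOK c P) {n : ℕ} (hn : n < 2048) : B.act (T.lift (ofP c)) n = limg P n :=
  B.act_limg (T.lift_mem _) (T.moves_lift _) hP hn

theorem lift_vel (σ : ↥M24) {n : ℕ} (hn : n < 2048) : T.lift σ * B.vel n = B.vel (B.act (T.lift σ) n) * T.lift σ := by
  rw [B.vel_act (T.lift_mem σ) hn]; group

theorem act_one {n : ℕ} (hn : n < 2048) : B.act (T.lift 1) n = n := by
  rw [map_one]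
  exact B.act_eq (one_mem _) hn hn (by group)

theorem act_mul_lift (σ τ : ↥M24) {n : ℕ} (hn : n < 2048) :
    B.act (T.lift (σ * τ)) n = B.act (T.lift σ) (B.act (T.lift τ) n) := by
  rw [map_mul, B.act_mul (T.lift_mem σ) (T.lift_mem τ) hn]

theorem act_comm {σ τ : ↥M24} (h : σ * τ = τ * σ) {n : ℕ} (hn : n < 2048) :
    B.act (T.lift σ) (B.act (T.lift τ) n) = B.act (T.lift τ) (B.act (T.lift σ) n) := by
  rw [← T.act_mul_lift σ τ hn, h, T.act_mul_lift τ σ hn]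

theorem pr_mul {n m : ℕ} (hm : m < 2048) (σ τ : ↥M24) :
    T.pr n σ * T.pr m τ = T.pr (Nat.xor n (B.act (T.lift σ) m)) (σ * τ) := by
  rw [pr, pr, pr, map_mul, ← B.vel_xor]
  rw [show B.vel n * T.lift σ * (B.vel m * T.lift τ) = B.vel n * (T.lift σ * B.vel m) * T.lift τ by group,
    T.lift_vel σ hm]
  group

theorem conj_pr {n : ℕ} (hn : n < 2048) (g σ : ↥M24) :
    T.lift g * T.pr n σ * (T.lift g)⁻¹ = T.pr (B.act (T.lift g) n) (g * σ * g⁻¹) := by
  rw [pr, pr, map_mul, map_mul, map_inv, ← mul_assoc (T.lift g), T.lift_vel g hn]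
  group

theorem conj_vel {u n : ℕ} (hu : u < 2048) (σ : ↥M24) :
    B.vel u * T.pr n σ * (B.vel u)⁻¹ = T.pr (Nat.xor n (Nat.xor u (B.act (T.lift σ) u))) σ := by
  have hinv : (B.vel u)⁻¹ = B.vel u := inv_eq_of_mul_eq_one_right (B.vel_sq u)
  rw [hinv, pr, pr, ← mul_assoc (B.vel u), mul_assoc (B.vel u * B.vel n), T.lift_vel σ hu, ← mul_assoc,
    B.vel_xor, B.vel_xor]
  congr 2
  show (u ^^^ n) ^^^ B.act (T.lift σ) u = n ^^^ (u ^^^ B.act (T.lift σ) u)
  ac_rfl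

theorem sq_eq_one_iff {n : ℕ} (hn : n < 2048) (σ : ↥M24) :
    T.pr n σ * T.pr n σ = 1 ↔ σ * σ = 1 ∧ B.act (T.lift σ) n = n := by
  have h1 : (1 : G) = T.pr 0 1 := by rw [T.pr_one, B.vel_zero]
  rw [T.pr_mul hn, h1]
  constructor
  · intro h
    obtain ⟨a, b⟩ := T.pr_inj (Nat.xor_lt_two_pow (n := 11) hn (B.act_lt _ _)) (by norm_num) h
    exact ⟨b, (bxor_eq_zero a).symm⟩
  · rintro ⟨a, b⟩
    rw [a, b, show Nat.xor n n = 0 from Nat.xor_self n]

theorem orderOf_pr {n : ℕ} (hn : n < 2048) {σ : ↥M24} (h1 : σ ≠ 1) (h2 : σ * σ = 1)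
    (hf : B.act (T.lift σ) n = n) : orderOf (T.pr n σ) = 2 := by
  refine orderOf_eq_prime (by rw [pow_two]; exact (T.sq_eq_one_iff hn σ).2 ⟨h2, hf⟩) fun e => h1 ?_
  exact (T.pr_inj hn (by norm_num) (e.trans (by rw [T.pr_one, B.vel_zero] : (1 : G) = T.pr 0 1))).2

/-- The powers of an element. -/
theorem pr_pow {σ : ↥M24} {f : ℕ → ℕ} (hf : ∀ n < 2048, B.act (T.lift σ) n = f n) {w : ℕ} (hw : w < 2048) :
    ∀ d, T.pr w σ ^ d = T.pr (normF f w d) (σ ^ d) ∧ normF f w d < 2048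
  | 0 => ⟨by rw [pow_zero, pow_zero, T.pr_one]; exact B.vel_zero.symm, by show (0 : ℕ) < 2048; norm_num⟩
  | d + 1 => by
    obtain ⟨e, hl⟩ := pr_pow hf hw d
    have hl' : f (normF f w d) < 2048 := by rw [← hf _ hl]; exact B.act_lt _ _
    refine ⟨?_, Nat.xor_lt_two_pow (n := 11) hw hl'⟩
    rw [pow_succ', e, T.pr_mul hl, hf _ hl, ← pow_succ']
    rfl

theorem duadRep_eq : B.duadRep = B.vel dualCode := by
  rw [duadRep, ← pcI_eq]
  rfl

theorem mem_zpowers_iff {σ : ↥M24} {f : ℕ → ℕ} (hf : ∀ n < 2048, B.act (T.lift σ) n = f n) {w : ℕ}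
    (hw : w < 2048) {d : ℕ} (hd : orderOf σ = d) :
    B.duadRep ∈ Subgroup.zpowers (T.pr w σ) ↔ Nat.beq (normF f w d) dualCode = true := by
  have hc : dualCode < 2048 := by decide +kernel
  have hc0 : dualCode ≠ 0 := by decide +kernel
  obtain ⟨ed, hdl⟩ := T.pr_pow hf hw d
  rw [← hd, pow_orderOf_eq_one, hd, T.pr_one] at ed
  rw [Nat.beq_eq]
  constructor
  · rw [← mem_powers_iff_mem_zpowers, Submonoid.mem_powers_iff]
    rintro ⟨i, hi⟩
    obtain ⟨ei, hil⟩ := T.pr_pow hf hw i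
    rw [hi, duadRep_eq, ← T.pr_one dualCode] at ei
    obtain ⟨m, rfl⟩ : d ∣ i := hd ▸ orderOf_dvd_of_pow_eq_one (T.pr_inj hc hil ei).2.symm
    rw [pow_mul, ed] at hi
    rcases Nat.even_or_odd m with ⟨k, rfl⟩ | ⟨k, rfl⟩
    · rw [← two_mul, pow_mul, pow_two, B.vel_sq, one_pow, duadRep_eq] at hi
      exact absurd (B.vel_inj hc (by norm_num) (hi.symm.trans B.vel_zero.symm)) hc0
    · rw [pow_add, pow_mul, pow_two, B.vel_sq, one_pow, one_mul, pow_one, duadRep_eq] at hi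
      exact B.vel_inj hdl hc hi
  · intro h
    rw [duadRep_eq, ← h, ← ed]
    exact pow_mem (Subgroup.mem_zpowers _) _

theorem centralizes_iff [IsSimpleGroup G] (hG : ¬ IsMulCommutative G) (hJ : IsOfJankoFourType G) {g : G} :
    g ∈ Subgroup.centralizer ({B.duadRep} : Set G) ↔ ∃ n < 2048, ∃ σ ∈ pairGroup, T.pr n σ = g := by
  have hlift : ∀ σ : ↥M24, T.lift σ ∈ Subgroup.centralizer ({B.duadRep} : Set G) ↔ σ ∈ pairGroup := fun σ => by
    rw [Subgroup.mem_centralizer_singleton_iff, ← mul_inv_eq_iff_eq_mul, duadRep,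
      B.conj_pair (T.lift_mem σ) (T.moves_lift σ), mem_pairGroup]
    have hne : (none : GolayPt) ≠ some 0 := by simp
    constructor
    · exact fun h => pairCode_eq (σ.1.injective.ne hne) hne (B.vel_inj (pairCode_lt _ _) (pairCode_lt _ _) h)
    · rintro (⟨a, b⟩ | ⟨a, b⟩) <;> rw [a, b]
      rw [pairCode_comm]
  have hV : ∀ {n}, n < 2048 → B.vel n ∈ Subgroup.centralizer ({B.duadRep} : Set G) := fun {n} hn =>
    Subgroup.mem_centralizer_singleton_iff.2 (B.commute_V (B.vel_mem hn) B.duadRep_mem).eq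
  constructor
  · intro hg
    obtain ⟨n, hn, σ, rfl⟩ := T.exists_pr (B.centralizer_duadRep_le hG hJ hg)
    exact ⟨n, hn, σ, (hlift σ).1 ((Subgroup.mul_mem_cancel_left _ (hV hn)).1 hg), rfl⟩
  · rintro ⟨n, hn, σ, hσ, rfl⟩
    exact mul_mem (hV hn) ((hlift σ).2 hσ)

include T in
/-- The order of the centralizer. -/
theorem card_centralizer_duad [IsSimpleGroup G] (hG : ¬ IsMulCommutative G) (hJ : IsOfJankoFourType G) :
    Nat.card ↥(Subgroup.centralizer ({B.duadRep} : Set G)) = 2 ^ 11 * 887040 := by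
  let f : Fin 2048 × ↥pairGroup → ↥(Subgroup.centralizer ({B.duadRep} : Set G)) := fun x =>
    ⟨T.pr x.1.1 x.2.1, (T.centralizes_iff hG hJ).2 ⟨_, x.1.2, _, x.2.2, rfl⟩⟩
  have hf : Function.Bijective f := by
    refine ⟨fun a b h => ?_, fun g => ?_⟩
    · obtain ⟨h1, h2⟩ := T.pr_inj a.1.2 b.1.2 (congrArg Subtype.val h)
      exact Prod.ext (Fin.ext h1) (Subtype.ext h2)
    · obtain ⟨n, hn, σ, hσ, e⟩ := (T.centralizes_iff hG hJ).1 g.2
      exact ⟨(⟨n, hn⟩, ⟨σ, hσ⟩), Subtype.ext e⟩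
  rw [← Nat.card_congr (Equiv.ofBijective f hf), Nat.card_prod, card_pairGroup, Nat.card_eq_fintype_card, Fintype.card_fin]
  norm_num

end TenBase

end HexBase

end CfsgLib.JankoFour
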