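import Cfsg.Agent.Lib.JankoFourOrder.DualTreeDefs
import Cfsg.Agent.Lib.JankoFourTen.Codes
import Cfsg.Agent.Lib.Sporadic.M24
import Cfsg.Agent.Lib.Sporadic.Steiner22Aut

/-!
# The involutions of the stabiliser of a pair in M24 (owner: helper14)
-/

set_option autoImplicit false
set_option maxRecDepth 100000

namespace CfsgLib.JankoFour.Dual

open Cfsg CfsgLib.Sporadic CfsgLib.JankoFourHexad CfsgLib.JankoFour.Ten
open CfsgLib.ThreeTrans.M24Inv (peq peq_iff)
open CfsgLib.Sporadic.Hexad22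
open scoped Pointwise

theorem trans_aut : transAll.all isAut = true := by decide +kernel

theorem swap_vals : (Nat.beq (pget CfsgLib.ThreeTrans.M24Inv.swapPerm 23) 0 &&
    Nat.beq (pget CfsgLib.ThreeTrans.M24Inv.swapPerm 0) 23) = true := by decide +kernel

theorem starts_lt : forallLt 3 (fun c => Nat.blt (clsStart c) 2871) = true := by decide +kernel

theorem starts_num : forallLt 3 (fun c => Nat.beq (at8 clsNum (clsStart c)) c) = true := by decide +kernel

/-- The element of `M24` with a given packed form. -/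
noncomputable def ofP (p : ℕ) : ↥M24 := if h : isAut p = true then (exists_M24_elt h).choose else 1

theorem ofP_rep {p : ℕ} (h : isAut p = true) : Rep (ofP p).1 p := by
  rw [ofP, dif_pos h]; exact (exists_M24_elt h).choose_spec

theorem eq_of_peq {σ τ : ↥M24} {p q : ℕ} (h : Rep σ.1 p) (h' : Rep τ.1 q) (e : peq p q = true) : σ = τ :=
  Subtype.ext ((peq_iff h h').1 e)

theorem ofP_one : ofP pone = 1 :=
  eq_of_peq (ofP_rep (by decide +kernel)) Rep.one (by decide +kernel)

theorem mul_comm_of_peq {a b c d : ℕ} {g h k l : ↥M24} (ha : Rep g.1 a) (hb : Rep h.1 b) (hc : Rep k.1 c)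
    (hd : Rep l.1 d) (e : peq (pmul a b) (pmul c d) = true) : g * h = k * l :=
  eq_of_peq (σ := g * h) (τ := k * l) (ha.mul hb) (hc.mul hd) e

/-- `P` gives the action of `c` on codes. -/
def ImgOK (c P : ℕ) : Prop := ∀ x y, limg P (pairCode x y) = pairCode ((ofP c).1 x) ((ofP c).1 y)

theorem img_of_check {c P : ℕ} (hc : isAut c = true)
    (h : forallLt 24 (fun j => Nat.beq (limg P (pcI 23 j)) (pcI (pget c 23) (pget c j))) = true) : ImgOK c P := by
  intro x y
  have hr := ofP_rep hc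
  have h1 : ∀ w, limg P (pairCode none w) = pairCode ((ofP c).1 none) ((ofP c).1 w) := fun w => by
    have e := Nat.eq_of_beq_eq_true (forallLt_elim h (ix_lt w))
    rw [show (23 : ℕ) = ix (none : GolayPt) from rfl, hr none, hr w, pcI_eq, pcI_eq] at e
    exact e
  rw [← pairCode_xor none x y, pairCode_comm none x, limg_xor,
    ← pairCode_xor ((ofP c).1 none) ((ofP c).1 x) ((ofP c).1 y), ← h1 y, ← h1 x, pairCode_comm x none]

theorem autOK_spec {c P : ℕ} (h : autOK c P = true) : isAut c = true ∧ ImgOK c P := by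
  rw [autOK, Bool.and_eq_true] at h
  exact ⟨h.1, img_of_check h.1 h.2⟩

theorem mem_pairGroup_of_check {c : ℕ} (hc : isAut c = true)
    (h : ((Nat.beq (pget c 23) 23 && Nat.beq (pget c 0) 0) || (Nat.beq (pget c 23) 0 && Nat.beq (pget c 0) 23)) = true) :
    ofP c ∈ pairGroup := by
  have hr := ofP_rep hc
  have h2 : ∀ {x y : GolayPt}, Nat.beq (pget c (ix x)) (ix y) = true → (ofP c).1 x = y := fun {x y} e => by
    rw [hr x] at e
    exact ix_injective (Nat.eq_of_beq_eq_true e)
  simp only [Bool.or_eq_true, Bool.and_eq_true] at h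
  rw [mem_pairGroup]
  rcases h with ⟨a, b⟩ | ⟨a, b⟩
  · exact Or.inl ⟨h2 (x := none) (y := none) a, h2 (x := some 0) (y := some 0) b⟩
  · exact Or.inr ⟨h2 (x := none) (y := some 0) a, h2 (x := some 0) (y := none) b⟩

theorem genOK_spec {c P : ℕ} (h : genOK c P = true) : isAut c = true ∧ ImgOK c P ∧ ofP c ∈ pairGroup := by
  rw [genOK, Bool.and_eq_true, Bool.and_eq_true] at h
  exact ⟨h.1.1, img_of_check h.1.1 h.1.2, mem_pairGroup_of_check h.1.1 h.2⟩

theorem inv_aut : forallLt 2871 (fun i => isAut (invAt i) &&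
    ((Nat.beq (pget (invAt i) 23) 23 && Nat.beq (pget (invAt i) 0) 0) ||
      (Nat.beq (pget (invAt i) 23) 0 && Nat.beq (pget (invAt i) 0) 23))) = true := by decide +kernel

/-- The involution with a given index. -/
noncomputable def inv' (i : ℕ) : ↥M24 := ofP (invAt i)

/-- A class representative. -/
noncomputable def rep (c : ℕ) : ↥M24 := ofP (repPerms.getD c 0)

theorem rep_spec {c : ℕ} (hc : c < 3) :
    Rep (rep c).1 (repPerms.getD c 0) ∧ ImgOK (repPerms.getD c 0) (repImgs.getD c 0) ∧ rep c ∈ pairGroup := by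
  have h := forallLt_elim rep_ok hc
  rw [Bool.and_eq_true] at h
  obtain ⟨h1, h2, h3⟩ := genOK_spec h.1
  exact ⟨ofP_rep h1, h2, h3⟩

theorem inv'_spec {i : ℕ} (hi : i < 2871) :
    Rep (inv' i).1 (invAt i) ∧ inv' i ∈ pairGroup ∧ inv' i * inv' i = 1 ∧ inv' i ≠ 1 := by
  have h := forallLt_elim inv_aut hi
  rw [Bool.and_eq_true] at h
  have hr := ofP_rep h.1
  have h' := forallLt_elim inv_ok hi
  simp only [Bool.and_eq_true, Bool.not_eq_true'] at h'
  refine ⟨hr, mem_pairGroup_of_check h.1 h.2, eq_of_peq (σ := inv' i * inv' i) (τ := 1) (hr.mul hr) Rep.one h'.1.2,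
    fun e => ?_⟩
  have hr1 : Rep (1 : Equiv.Perm GolayPt) (invAt i) := by
    have := hr; rwa [show (ofP (invAt i)).1 = 1 from congrArg Subtype.val e] at this
  have h3 := (peq_iff hr1 Rep.one).2 rfl
  rw [h'.2] at h3
  exact Bool.noConfusion h3

theorem pmul_congr {p q : ℕ} (h : ∀ k < 24, pget p k = pget q k) : pmul p pone = pmul q pone := by
  have h1 : ∀ i < 24, pget pone i = i := fun i hi => by
    have e := Rep.one (pt i)
    rwa [ix_pt hi, Equiv.Perm.one_apply, ix_pt hi] at e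
  have key : ∀ n ≤ 24, (Nat.rec 0 (fun i acc => Nat.lor acc (Nat.shiftLeft (pget p (pget pone i)) (Nat.mul 5 i))) n : ℕ) =
      Nat.rec 0 (fun i acc => Nat.lor acc (Nat.shiftLeft (pget q (pget pone i)) (Nat.mul 5 i))) n := by
    intro n hn
    induction n with
    | zero => rfl
    | succ n ih =>
      show Nat.lor _ _ = Nat.lor _ _
      rw [ih (by omega), h1 n (by omega), h n (by omega)]
  exact key 24 le_rfl

theorem inv'_inj {i j : ℕ} (hi : i < 2871) (hj : j < 2871) (h : inv' i = inv' j) : i = j := by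
  have key : ∀ {i}, i < 2871 → pmul (invAt i) pone = invAt i := fun {i} hi => by
    have h' := forallLt_elim inv_ok hi
    simp only [Bool.and_eq_true] at h'
    exact Nat.eq_of_beq_eq_true h'.1.1
  have hri := (inv'_spec hi).1
  have hrj : Rep (inv' i).1 (invAt j) := h ▸ (inv'_spec hj).1
  have e : pmul (invAt i) pone = pmul (invAt j) pone := pmul_congr fun k hk => by
    rw [← ix_pt hk, hri (pt k), hrj (pt k)]
  rw [key hi, key hj] at e
  have hstrict : StrictMono fun i : Fin 2871 => invAt i.1 := Fin.strictMono_iff_lt_succ.2 fun k => by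
    have := forallLt_elim inv_sorted k.2
    exact Nat.blt_eq.mp this
  exact congrArg Fin.val (hstrict.injective (a₁ := ⟨i, hi⟩) (a₂ := ⟨j, hj⟩) e)

/-- The transversal steps stay inside a subgroup. -/
theorem step {K : Subgroup (Equiv.Perm GolayPt)} (hKM : K ≤ M24) {pre : List ℕ} {b : ℕ} {t : List ℕ} {O : ℕ}
    (hlev : levelOK pre b t O = true) (hK : ∀ p ∈ t, ∃ σ ∈ K, Rep σ p) {g : Equiv.Perm GolayPt}
    (hg : g ∈ fixOf M24 pre) (hmem : g (pt b) ∈ setOfMask O) :
    ∃ σ ∈ K, σ⁻¹ * g ∈ fixOf M24 (b :: pre) := by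
  obtain ⟨σ, hσ, e⟩ := exists_of_level hlev hK hmem
  obtain ⟨hσK, hσf⟩ := mem_fixOf.1 hσ
  obtain ⟨hgM, hgf⟩ := mem_fixOf.1 hg
  refine ⟨σ, hσK, mem_fixOf.2 ⟨mul_mem (inv_mem (hKM hσK)) hgM, List.forall_mem_cons.2 ⟨?_, fun c hc => ?_⟩⟩⟩
  · rw [Equiv.Perm.mul_apply, ← e, Equiv.Perm.coe_inv, Equiv.symm_apply_apply]
  · rw [Equiv.Perm.mul_apply, hgf c hc]
    conv_lhs => rw [← hσf c hc]
    rw [Equiv.Perm.coe_inv, Equiv.symm_apply_apply]

/-- The generators. -/
noncomputable def gen (j : Fin 3) : ↥M24 := ofP (genPerms.getD j.1 0)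

theorem gen_spec (j : Fin 3) :
    Rep (gen j).1 (genPerms.getD j.1 0) ∧ ImgOK (genPerms.getD j.1 0) (genImgs.getD j.1 0) ∧ gen j ∈ pairGroup := by
  obtain ⟨h1, h2, h3⟩ := genOK_spec (forallLt_elim gens_ok j.2)
  exact ⟨ofP_rep h1, h2, h3⟩

theorem wordPerm_rep : ∀ w : List ℕ, w.all (fun j => Nat.blt j 3) = true →
    ∃ σ ∈ (Subgroup.closure (Set.range gen)).map M24.subtype, Rep σ (wordPerm w)
  | [], _ => ⟨1, one_mem _, Rep.one⟩
  | j :: w, h => by
    rw [List.all_cons, Bool.and_eq_true, Nat.blt_eq] at h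
    obtain ⟨σ, hσ, hr⟩ := wordPerm_rep w h.2
    exact ⟨(gen ⟨j, h.1⟩).1 * σ,
      mul_mem ⟨_, Subgroup.subset_closure ⟨⟨j, h.1⟩, rfl⟩, rfl⟩ hσ, (gen_spec ⟨j, h.1⟩).1.mul hr⟩

/-- The generators generate the stabiliser of the pair. -/
theorem pairGroup_le_closure : pairGroup ≤ Subgroup.closure (Set.range gen) := by
  intro g hg
  set K := (Subgroup.closure (Set.range gen)).map M24.subtype with hKdef
  have hKM : K ≤ M24 := by
    rintro _ ⟨x, -, rfl⟩; exact x.2
  have htr : ∀ p ∈ transAll, ∃ σ ∈ K, Rep σ p := by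
    intro p hp
    obtain ⟨i, hi, rfl⟩ := List.getElem_of_mem hp
    have h := words_ok
    rw [Bool.and_eq_true] at h
    have hlen : genWords.length = transAll.length := Nat.eq_of_beq_eq_true h.1
    have h2 := List.all_eq_true.1 h.2 (transAll[i], genWords[i]'(hlen ▸ hi))
      (List.mem_iff_getElem.2 ⟨i, by rw [List.length_zip, hlen]; simpa using hi, List.getElem_zip⟩)
    rw [Bool.and_eq_true] at h2
    obtain ⟨σ, hσ, hr⟩ := wordPerm_rep _ h2.1
    obtain ⟨τ, -, hr'⟩ := exists_mem_M24 (p := transAll[i]) (List.all_eq_true.1 trans_aut _ (List.getElem_mem hi))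
    exact ⟨σ, hσ, ((peq_iff hr hr').1 h2.2) ▸ hr'⟩
  have hsub : ∀ {t}, t ∈ [m24Trans2, m24Trans3, m24Trans4, m24Trans5, m24Trans6] → ∀ p ∈ t, ∃ σ ∈ K, Rep σ p := by
    intro t ht p hp
    refine htr p ?_
    simp only [List.mem_cons, List.not_mem_nil, or_false] at ht
    simp only [transAll, List.mem_append]
    rcases ht with rfl | rfl | rfl | rfl | rfl <;> simp [hp]
  have main : ∀ h : Equiv.Perm GolayPt, h ∈ fixOf M24 [0, 23] → h ∈ K := by
    intro h h0
    obtain ⟨s2, k2, f2⟩ := step hKM level2 (hsub (by simp)) h0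
      (mem_compl_of_fix (K := M24) (pre := [0, 23]) (b := 1) (by decide) (by decide +kernel) h h0)
    obtain ⟨s3, k3, f3⟩ := step hKM level3 (hsub (by simp)) f2
      (mem_compl_of_fix (K := M24) (pre := [1, 0, 23]) (b := 2) (by decide) (by decide +kernel) _ f2)
    obtain ⟨s4, k4, f4⟩ := step hKM level4 (hsub (by simp)) f3
      (mem_compl_of_fix (K := M24) (pre := [2, 1, 0, 23]) (b := 3) (by decide) (by decide +kernel) _ f3)
    have hoct : setOfMask 8536111 ∈ octads := by
      rw [mem_octads_iff, maskOf_setOfMask (by norm_num)]; decide +kernel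
    have inO : ∀ σ ∈ fixOf M24 [3, 2, 1, 0, 23], σ • setOfMask 8536111 = setOfMask 8536111 := by
      intro σ hσ
      refine smul_eq_of_fix_five (mem_fixOf.1 hσ).1 hoct (s := setOfMask 8388623)
        (by decide +kernel) (by decide +kernel) fun x hx => ?_
      have hc : ix x ∈ [3, 2, 1, 0, 23] := by revert hx; revert x; decide +kernel
      have := (mem_fixOf.1 hσ).2 _ hc
      rwa [pt_ix] at this
    have m5 : ∀ σ ∈ fixOf M24 [3, 2, 1, 0, 23], σ (pt 5) ∈ setOfMask 147488 := by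
      intro σ hσ
      have hin : σ (pt 5) ∈ setOfMask 8536111 := by
        rw [← inO σ hσ]
        exact Finset.smul_mem_smul_finset (a := σ) (by decide +kernel)
      have hout : ∀ c ∈ [3, 2, 1, 0, 23], σ (pt 5) ≠ pt c := fun c hc e => by
        rw [← (mem_fixOf.1 hσ).2 c hc] at e
        have h' := σ.injective e
        clear e
        revert c; decide
      revert hin hout
      generalize σ (pt 5) = y
      revert y; decide +kernel
    obtain ⟨s5, k5, f5⟩ := step hKM level5 (hsub (by simp)) f4 (m5 _ f4)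
    have m6 : ∀ σ ∈ fixOf M24 [5, 3, 2, 1, 0, 23], σ (pt 4) ∈ setOfMask 8241104 := by
      intro σ hσ
      have hout : σ (pt 4) ∉ setOfMask 8536111 := by
        rw [← inO σ (Subgroup.mem_inf.1 hσ).1]
        show σ • pt 4 ∉ _
        rw [Finset.smul_mem_smul_finset_iff]
        decide +kernel
      revert hout
      generalize σ (pt 4) = y
      revert y; decide +kernel
    obtain ⟨s6, k6, f6⟩ := step hKM level6 (hsub (by simp)) f5 (m6 _ f5)
    have h1 := eq_one_of_fix_base (mem_fixOf.1 f6).1 fun i hi =>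
      (mem_fixOf.1 f6).2 i (by simp only [List.mem_cons, List.not_mem_nil] at hi ⊢; tauto)
    have e : h = s2 * s3 * s4 * s5 * s6 := by
      calc h = s2 * s3 * s4 * s5 * s6 * (s6⁻¹ * (s5⁻¹ * (s4⁻¹ * (s3⁻¹ * (s2⁻¹ * h))))) := by group
        _ = _ := by rw [h1, mul_one]
    rw [e]
    exact mul_mem (mul_mem (mul_mem (mul_mem k2 k3) k4) k5) k6
  have hback : ∀ x : ↥M24, x.1 ∈ K → x ∈ Subgroup.closure (Set.range gen) := fun x hx => by
    obtain ⟨y, hy, e⟩ := hx
    exact (show y = x from Subtype.ext e) ▸ hy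
  have p23 : pt 23 = none := by decide
  have p0 : pt 0 = some 0 := by decide
  have hfix : ∀ x : ↥M24, x.1 none = none → x.1 (some 0) = some 0 → x.1 ∈ fixOf M24 [0, 23] := fun x a b =>
    mem_fixOf.2 ⟨x.2, by simp [p23, p0, a, b]⟩
  rcases mem_pairGroup.1 hg with ⟨a, b⟩ | ⟨a, b⟩
  · exact hback g (main _ (hfix g a b))
  · obtain ⟨s, hs, hr⟩ := htr CfsgLib.ThreeTrans.M24Inv.swapPerm (by simp [transAll])
    have hsw := swap_vals
    simp only [Bool.and_eq_true] at hsw
    have s23 : s none = some 0 := ix_injective (by rw [← hr none]; exact Nat.eq_of_beq_eq_true hsw.1)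
    have s0 : s (some 0) = none := ix_injective (by rw [← hr (some 0)]; exact Nat.eq_of_beq_eq_true hsw.2)
    refine hback g ?_
    have h2 := main _ (hfix (⟨s, hKM hs⟩ * g) (by show s (g.1 none) = none; rw [a, s0])
      (by show s (g.1 (some 0)) = some 0; rw [b, s23]))
    rw [show g.1 = s⁻¹ * (s * g.1) by group]
    exact mul_mem (inv_mem hs) h2

theorem gen_conj (j : Fin 3) {i : ℕ} (hi : i < 2871) : ∃ l < 2871, gen j * inv' i * (gen j)⁻¹ = inv' l := by
  have h := forallLt_elim (forallLt_elim inv_closed j.2) hi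
  rw [Bool.and_eq_true, Nat.blt_eq] at h
  refine ⟨_, h.1, mul_inv_eq_iff_eq_mul.2 ?_⟩
  exact mul_comm_of_peq (gen_spec j).1 (inv'_spec hi).1 (inv'_spec h.1).1 (gen_spec j).1 h.2

/-- The list is closed under conjugation by the stabiliser. -/
theorem conj_mem {g : ↥M24} (hg : g ∈ pairGroup) : ∀ i < 2871, ∃ l < 2871, g * inv' i * g⁻¹ = inv' l := by
  have h := pairGroup_le_closure hg
  rw [← Subgroup.mem_toSubmonoid, Subgroup.closure_toSubmonoid_of_finite] at h
  clear hg
  induction h using Submonoid.closure_induction with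
  | mem x hx =>
    obtain ⟨j, rfl⟩ := hx
    exact fun i hi => gen_conj j hi
  | one => exact fun i hi => ⟨i, hi, by simp⟩
  | mul x y _ _ hx hy =>
    intro i hi
    obtain ⟨l, hl, e⟩ := hy i hi
    obtain ⟨m, hm, e'⟩ := hx l hl
    exact ⟨m, hm, by rw [← e', ← e]; group⟩

theorem rep_index {c : ℕ} (hc : c < 3) : ∃ i < 2871, inv' i = rep c := by
  have hs : clsStart c < 2871 := Nat.blt_eq.mp (forallLt_elim starts_lt hc)
  have h := forallLt_elim cls_tree hs
  simp only [Bool.and_eq_true, Nat.blt_eq] at h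
  have e : at8 clsNum (clsStart c) = c := Nat.eq_of_beq_eq_true (forallLt_elim starts_num hc)
  rw [e, Nat.beq_refl] at h
  simp only [if_true] at h
  exact ⟨_, h.1.1.1.1, eq_of_peq (inv'_spec h.1.1.1.1).1 (rep_spec hc).1 h.2⟩

theorem free_iff {c : ℕ} (hc : c < 3) : (∀ p, (rep c).1 p ≠ p) ↔ c = 0 := by
  have h := forallLt_elim rep_ok hc
  rw [Bool.and_eq_true, beq_iff_eq] at h
  have hb : Nat.beq c 0 = true ↔ c = 0 := iff_of_eq Nat.beq_eq
  rw [← hb, h.2, forallLt_iff]
  constructor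
  · intro hp i hi
    rw [Bool.not_eq_true']
    refine Bool.eq_false_iff.2 fun e => hp (pt i) (ix_injective ?_)
    rw [← (rep_spec hc).1 (pt i), ix_pt hi]
    exact Nat.eq_of_beq_eq_true e
  · intro hp x e
    have := hp _ (ix_lt x)
    rw [(rep_spec hc).1 x, e, Nat.beq_refl] at this
    exact Bool.noConfusion this

theorem orderOf_invol {g : ↥M24} (h2 : g * g = 1) (h1 : g ≠ 1) : orderOf (g : Equiv.Perm GolayPt) = 2 :=
  orderOf_eq_prime (by rw [pow_two]; exact congrArg Subtype.val h2) fun e => h1 (Subtype.ext e)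

/-- Every involution of the stabiliser is in the list. -/
theorem exists_index {σ : ↥M24} (hσ : σ ∈ pairGroup) (h2 : σ * σ = 1) (h1 : σ ≠ 1) : ∃ i < 2871, inv' i = σ := by
  classical
  obtain ⟨-, -, -, hclass⟩ := CfsgLib.ThreeTrans.M24Inv.main
  suffices hk : ∃ c < 3, ∃ k : ↥M24, k ∈ pairGroup ∧ k * rep c * k⁻¹ = σ by
    obtain ⟨c, hc, k, hk, rfl⟩ := hk
    obtain ⟨i, hi, e⟩ := rep_index hc
    obtain ⟨l, hl, e'⟩ := conj_mem hk i hi
    exact ⟨l, hl, by rw [← e', e]⟩
  have hrep : ∀ {c}, c < 3 → orderOf ((rep c : ↥M24) : Equiv.Perm GolayPt) = 2 := fun {c} hc => by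
    obtain ⟨i, hi, e⟩ := rep_index hc
    obtain ⟨-, -, a, b⟩ := inv'_spec hi
    exact e ▸ orderOf_invol a b
  have hget : ∀ {c}, c < 3 → (c = 0 ↔ ∀ p, σ.1 p ≠ p) → ∃ k : ↥M24, k * rep c * k⁻¹ = σ := fun {c} hc hiff => by
    obtain ⟨k, hk, e⟩ := hclass _ (rep c).2 _ σ.2 (hrep hc) (orderOf_invol h2 h1) ((free_iff hc).trans hiff)
    exact ⟨⟨k, hk⟩, Subtype.ext e⟩
  have happ : ∀ {k r : ↥M24}, k * r * k⁻¹ = σ → ∀ x, σ.1 (k.1 x) = k.1 (r.1 x) := fun {k r} e x => by
    rw [← e]
    show k.1 (r.1 (k.1⁻¹ (k.1 x))) = _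
    rw [Equiv.Perm.coe_inv, Equiv.symm_apply_apply]
  obtain ⟨r00, r10, r20, r23⟩ := rep_pair
  rcases mem_pairGroup.1 hσ with ⟨a, b⟩ | ⟨a, b⟩
  · obtain ⟨k, hk⟩ := hget (c := 2) (by norm_num) (iff_of_false (by norm_num) fun h => h none a)
    refine ⟨2, by norm_num, ?_⟩
    set x := k.1⁻¹ none with hx
    set y := k.1⁻¹ (some 0) with hy
    have kx : k.1 x = none := by rw [hx]; simp
    have ky : k.1 y = some 0 := by rw [hy]; simp
    have hr := (rep_spec (c := 2) (by norm_num)).1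
    have fx : (rep 2).1 x = x := k.1.injective (by rw [← happ hk x, kx, a])
    have fy : (rep 2).1 y = y := k.1.injective (by rw [← happ hk y, ky, b])
    have hxy : x ≠ y := fun e => by rw [e, ky] at kx; simp at kx
    have h := forallLt_elim (forallLt_elim cen_three (ix_lt x)) (ix_lt y)
    rw [hr x, hr y, fx, fy, Nat.beq_refl, Nat.beq_refl, Bool.and_self, Bool.not_true, Bool.false_or,
      show Nat.beq (ix x) (ix y) = false from Bool.eq_false_iff.2 fun e =>
        hxy (ix_injective (Nat.eq_of_beq_eq_true e)), Bool.false_or] at h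
    simp only [List.any_eq_true, Bool.and_eq_true] at h
    obtain ⟨e, -, ⟨⟨⟨⟨-, -⟩, he⟩, he1⟩, he2⟩, he3⟩ := h
    have her := ofP_rep he
    have hcom : ofP e.2 * rep 2 = rep 2 * ofP e.2 := mul_comm_of_peq her hr hr her he3
    have e1 : (ofP e.2).1 none = x := ix_injective (by rw [← her none]; exact Nat.eq_of_beq_eq_true he1)
    have e2 : (ofP e.2).1 (some 0) = y := ix_injective (by rw [← her (some 0)]; exact Nat.eq_of_beq_eq_true he2)
    refine ⟨k * ofP e.2, mem_pairGroup.2 (Or.inl ⟨?_, ?_⟩), ?_⟩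
    · show k.1 ((ofP e.2).1 none) = none
      rw [e1, kx]
    · show k.1 ((ofP e.2).1 (some 0)) = some 0
      rw [e2, ky]
    · rw [← hk, show k * ofP e.2 * rep 2 * (k * ofP e.2)⁻¹ = k * (ofP e.2 * rep 2) * (ofP e.2)⁻¹ * k⁻¹ by group, hcom]
      group
  · have fin : ∀ {c}, c < 3 → (rep c).1 none = some 0 → (c = 0 ↔ ∀ p, σ.1 p ≠ p) →
        (∀ x, (rep c).1 x ≠ x → ∃ e : ↥M24, e.1 none = x ∧ e * rep c = rep c * e) →
        ∃ c < 3, ∃ k : ↥M24, k ∈ pairGroup ∧ k * rep c * k⁻¹ = σ := fun {c} hc hr0 hiff hcen => by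
      obtain ⟨k, hk⟩ := hget hc hiff
      set x := k.1⁻¹ none with hx
      have kx : k.1 x = none := by rw [hx]; simp
      obtain ⟨e, e1, e2⟩ := hcen x fun e => by
        have := happ hk x
        rw [e, kx, a] at this
        simp at this
      refine ⟨c, hc, k * e, mem_pairGroup.2 (Or.inl ⟨?_, ?_⟩), ?_⟩
      · show k.1 (e.1 none) = none
        rw [e1, kx]
      · show k.1 (e.1 (some 0)) = some 0
        rw [← hr0, show e.1 ((rep c).1 none) = (rep c).1 (e.1 none) from
          congrArg (fun g : ↥M24 => g.1 none) e2, e1, ← happ hk x, kx, a, hr0]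
      · rw [← hk, show k * e * rep c * (k * e)⁻¹ = k * (e * rep c) * e⁻¹ * k⁻¹ by group, e2]
        group
    have hr0 : ∀ {c}, c < 3 → Nat.beq (pget (repPerms.getD c 0) 23) 0 = true → (rep c).1 none = some 0 :=
      fun {c} hc h => ix_injective (by rw [← (rep_spec hc).1 none]; exact Nat.eq_of_beq_eq_true h)
    by_cases hf : ∀ p, σ.1 p ≠ p
    · refine fin (c := 0) (by norm_num) (hr0 (by norm_num) r00) (iff_of_true rfl hf) fun x _ => ?_
      have hr := (rep_spec (c := 0) (by norm_num)).1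
      have h := forallLt_elim cen_one (ix_lt x)
      simp only [List.any_eq_true, Bool.and_eq_true] at h
      obtain ⟨e, -, ⟨⟨-, he⟩, he1⟩, he3⟩ := h
      exact ⟨ofP e.2, ix_injective (by rw [← ofP_rep he none]; exact Nat.eq_of_beq_eq_true he1),
        mul_comm_of_peq (ofP_rep he) hr hr (ofP_rep he) he3⟩
    · refine fin (c := 1) (by norm_num) (hr0 (by norm_num) r10) (iff_of_false (by norm_num) hf) fun x hne => ?_
      have hr := (rep_spec (c := 1) (by norm_num)).1
      have h := forallLt_elim cen_two (ix_lt x)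
      rw [hr x, show Nat.beq (ix ((rep 1).1 x)) (ix x) = false from Bool.eq_false_iff.2 fun e =>
        hne (ix_injective (Nat.eq_of_beq_eq_true e)), Bool.false_or] at h
      simp only [List.any_eq_true, Bool.and_eq_true] at h
      obtain ⟨e, -, ⟨⟨-, he⟩, he1⟩, he3⟩ := h
      exact ⟨ofP e.2, ix_injective (by rw [← ofP_rep he none]; exact Nat.eq_of_beq_eq_true he1),
        mul_comm_of_peq (ofP_rep he) hr hr (ofP_rep he) he3⟩

end CfsgLib.JankoFour.Dual
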