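import Cfsg.Agent.Lib.JankoFourOrder.DualChecks
import Cfsg.Agent.Lib.JankoFourOrder.DualTreeData

/-!
# The checks on the orbits of six centralizers, as Booleans (owner: helper14)
-/

set_option autoImplicit false
set_option maxRecDepth 100000

namespace CfsgLib.JankoFour.Dual

open Cfsg CfsgLib.Sporadic CfsgLib.JankoFourHexad CfsgLib.JankoFour.Ten
open CfsgLib.ThreeTrans.M24Inv (peq)

/-- An automorphism with the given action on codes. -/
noncomputable def autOK (c P : ℕ) : Bool :=
  isAut c && forallLt 24 (fun j => Nat.beq (limg P (pcI 23 j)) (pcI (pget c 23) (pget c j)))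

/-- The twisted norm: the code of a power. -/
noncomputable def normF (f : ℕ → ℕ) (v d : ℕ) : ℕ :=
  Nat.rec (motive := fun _ => ℕ) 0 (fun _ N => Nat.xor v (f N)) d

/-- A power of a packed permutation. -/
noncomputable def ppow (p d : ℕ) : ℕ := Nat.rec (motive := fun _ => ℕ) pone (fun _ q => pmul p q) d

/-- The order is exactly `d`. -/
noncomputable def ordOK (p d : ℕ) : Bool :=
  Nat.blt 0 d && peq (ppow p d) pone && forallLt d (fun j => Nat.beq j 0 || !peq (ppow p j) pone)

/-- The code of the standard duad. -/
noncomputable def dualCode : ℕ := pcI 23 0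

/-- The first kind of element data. -/
noncomputable def xAt (x : ℕ) : ℕ × ℕ × ℕ × ℕ × ℕ := xData.getD x (0, 0, 0, 0, 0)

/-- The data of a root. -/
noncomputable def rootAt (x r : ℕ) : ℕ × ℕ × ℕ × ℕ × ℕ × ℕ × ℕ × ℕ :=
  (xRootData.getD x []).getD r (0, 0, 0, 0, 0, 0, 0, 0)

/-- A centralizing generator with its action. -/
noncomputable def xGen (x j : ℕ) : ℕ × ℕ := (xGens.getD x []).getD j (0, 0)

/-- The element is an involution of the stabiliser or trivial, its code is fixed. -/
noncomputable def elemOK (x : ℕ) : Bool :=
  match xAt x with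
  | (v, k, P, d, _) =>
    genOK k P && peq (pmul k k) pone && Nat.blt v 2048 && Nat.beq (limg P v) v && ordOK k d &&
      forallLt 3 (fun j => match xGen x j with
        | (c, Q) => genOK c Q && peq (pmul c k) (pmul k c) && Nat.beq (limg Q v) v)

/-- The tree of an element. -/
noncomputable def treeOK (x : ℕ) : Bool :=
  forallLt 2871 fun i =>
    Nat.blt (at12 (xOrd.getD x 0) i) 2871 && Nat.blt (at12 (xPos.getD x 0) i) 2871 &&
      Nat.beq (at12 (xOrd.getD x 0) (at12 (xPos.getD x 0) i)) i &&
      Nat.blt (at8 (xRoot.getD x 0) i) (xRootData.getD x []).length &&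
      if Nat.beq (parOf (at16 (xPar.getD x 0) i)) i then
        Nat.beq (at12 (xOrd.getD x 0) i) (rootAt x (at8 (xRoot.getD x 0) i)).1
      else Nat.blt (parOf (at16 (xPar.getD x 0) i)) i && Nat.blt (genOf (at16 (xPar.getD x 0) i)) 3 &&
        Nat.beq (at8 (xRoot.getD x 0) (parOf (at16 (xPar.getD x 0) i))) (at8 (xRoot.getD x 0) i) &&
        peq (pmul (xGen x (genOf (at16 (xPar.getD x 0) i))).1
              (invAt (at12 (xOrd.getD x 0) (parOf (at16 (xPar.getD x 0) i)))))
          (pmul (invAt (at12 (xOrd.getD x 0) i)) (xGen x (genOf (at16 (xPar.getD x 0) i))).1)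

/-- The code of the power of a product with the `j`th element over a root. -/
noncomputable def prodCode (v Pk Pl Pc d ci j : ℕ) : ℕ :=
  normF (fun n => limg Pk (limg Pl n)) (Nat.xor v (limg Pk (limg Pc (repVec ci j)))) d

/-- The roots of an element, with the two counts. -/
noncomputable def rootsOK (x : ℕ) : Bool :=
  match xAt x with
  | (v, k, Pk, _, _) =>
    forallLt (xRootData.getD x []).length fun r => match rootAt x r with
      | (i, ci, c, Pc, Pl, d, nA, nB) =>
        Nat.blt i 2871 && Nat.blt ci 3 && autOK c Pc && autOK (invAt i) Pl &&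
          peq (pmul c (repPerms.getD ci 0)) (pmul (invAt i) c) && ordOK (pmul k (invAt i)) d &&
          Nat.beq (countLt (repSize ci) fun j => Nat.testBit (repMask.getD ci 0) j &&
            Nat.beq (prodCode v Pk Pl Pc d ci j) dualCode) nA &&
          Nat.beq (countLt (repSize ci) fun j => !Nat.testBit (repMask.getD ci 0) j &&
            Nat.beq (prodCode v Pk Pl Pc d ci j) dualCode) nB

/-- The pairs with second member in `V`. -/
noncomputable def identOK (x : ℕ) : Bool :=
  match xAt x with
  | (v, _, Pk, d, n) =>
    Nat.beq (countLt 2048 fun u => Nat.testBit dMask u &&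
      Nat.beq (normF (limg Pk) (Nat.xor v (limg Pk u)) d) dualCode) n

/-- The number of suitable elements over a root; `o` says whether the free lifts conjugate to `z`
are those with a commutator as code. -/
noncomputable def rootCount (o : Bool) (x r : ℕ) : ℕ :=
  match rootAt x r with
  | (_, ci, _, _, _, _, nA, nB) => if Nat.beq ci 0 && !o then nA else nB

/-- The total over all involutions. -/
noncomputable def total (o : Bool) (x : ℕ) : ℕ :=
  Nat.rec (motive := fun _ => ℕ) (xAt x).2.2.2.2
    (fun i s => Nat.add s (rootCount o x (at8 (xRoot.getD x 0) i))) 2871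

end CfsgLib.JankoFour.Dual
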