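import Cfsg.Agent.Lib.JankoFourOrder.DualModel

/-!
# Which lifts of the three representatives are conjugates of the central involution (owner: helper14)
-/

set_option autoImplicit false
set_option linter.unusedSectionVars false
set_option maxRecDepth 100000

namespace CfsgLib.JankoFour

open Cfsg CfsgLib.Sporadic CfsgLib.Sporadic.Hexad22 CfsgLib.JankoFourHexad CfsgLib.JankoFour.Ten CfsgLib.JankoFour.Dual
open CfsgLib.ThreeTrans.M24Inv (peq peq_iff)

namespace Dual

/-- A certificate for the type of an element of a coset with given second coordinate. -/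
noncomputable def certW (w n j u : ℕ) (d : Bool) : Bool :=
  Nat.blt w 64 && Nat.blt n 128 && Nat.beq (tMap w n) n && Nat.blt j 77 && Nat.blt u 64 &&
    Nat.beq (qWord (wordData.getD j []) u) (eU n + 64 * w) && !Nat.beq u 0 &&
    (Nat.testBit dMask (2 * u) == d) && (Nat.testBit dMask (2 * u + 1) == d)

theorem cert_free : certW 22 0 76 63 true = true ∧ certW 22 4 6 22 false = true := by decide +kernel

theorem rep_fixed : forallLt 3 (fun c =>
    Nat.beq (countLt 2048 fun n => Nat.beq (limg (repImgs.getD c 0) n) n) (repSize c)) = true := by decide +kernel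

theorem rep_coset : forallLt 64 (fun i => forallLt 64 fun j =>
    !(Nat.testBit (repMask.getD 0 0) i == Nat.testBit (repMask.getD 0 0) j) ||
      Nat.testBit (repMask.getD 0 0) (Nat.xor i j)) = true := by decide +kernel

/-- Whether the lifts with the given commutator bit are conjugates of `z`. -/
def rule (o : Bool) (c : ℕ) (m : Bool) : Bool := if Nat.beq c 0 && !o then !m else m

theorem repVec_facts {c j : ℕ} (hc : c < 3) (hj : j < repSize c) :
    repVec c j < 2048 ∧ limg (repImgs.getD c 0) (repVec c j) = repVec c j := by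
  have h := forallLt_elim rep_spaces hc
  rw [Bool.and_eq_true] at h
  have h' := forallLt_elim h.2 hj
  simp only [Bool.and_eq_true, Nat.blt_eq] at h'
  exact ⟨h'.1.1.1, Nat.eq_of_beq_eq_true h'.1.1.2⟩

theorem repVec_xor (c i j : ℕ) : repVec c (i ^^^ j) = repVec c i ^^^ repVec c j := xorComb_xor _ i j _

theorem repVec_inj {c i j : ℕ} (hc : c < 3) (hi : i < repSize c) (hj : j < repSize c)
    (h : repVec c i = repVec c j) : i = j := by
  have hs := forallLt_elim rep_spaces hc
  rw [Bool.and_eq_true] at hs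
  have h' := forallLt_elim hs.2 (Nat.xor_lt_two_pow (n := repDims.getD c 0) hi hj)
  simp only [Bool.and_eq_true, Bool.or_eq_true, Bool.not_eq_true'] at h'
  rcases h'.1.2 with e | e
  · exact Nat.xor_eq_zero_iff.1 (Nat.eq_of_beq_eq_true e)
  · rw [show repVec c (i ^^^ j) = 0 by rw [repVec_xor, h, Nat.xor_self]] at e
    exact Bool.noConfusion e

theorem exists_repVec {c n : ℕ} (hc : c < 3) (hn : n < 2048) (hf : limg (repImgs.getD c 0) n = n) :
    ∃ j < repSize c, repVec c j = n := by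
  classical
  have hcard := Nat.eq_of_beq_eq_true (forallLt_elim rep_fixed hc)
  rw [countLt_eq] at hcard
  set s := (Finset.range 2048).filter fun n => Nat.beq (limg (repImgs.getD c 0) n) n = true with hs
  have e : (Finset.range (repSize c)).image (repVec c) = s := by
    refine Finset.eq_of_subset_of_card_le (fun x hx => ?_) ?_
    · obtain ⟨j, hj, rfl⟩ := Finset.mem_image.1 hx
      obtain ⟨a, b⟩ := repVec_facts hc (Finset.mem_range.1 hj)
      exact Finset.mem_filter.2 ⟨Finset.mem_range.2 a, by rw [b, Nat.beq_refl]⟩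
    · rw [hcard, Finset.card_image_of_injOn fun i hi j hj h =>
        repVec_inj hc (Finset.mem_range.1 hi) (Finset.mem_range.1 hj) h, Finset.card_range]
  have hmem : n ∈ s := Finset.mem_filter.2 ⟨Finset.mem_range.2 hn, by rw [hf, Nat.beq_refl]⟩
  rw [← e] at hmem
  obtain ⟨j, hj, ej⟩ := Finset.mem_image.1 hmem
  exact ⟨j, Finset.mem_range.1 hj, ej⟩

theorem mask_iff {c j : ℕ} (hc : c < 3) (hj : j < repSize c) :
    Nat.testBit (repMask.getD c 0) j = true ↔ ∃ u < 2048, Nat.xor u (limg (repImgs.getD c 0) u) = repVec c j := by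
  have h := forallLt_elim rep_spaces hc
  rw [Bool.and_eq_true] at h
  have h' := forallLt_elim h.2 hj
  rw [Bool.and_eq_true] at h'
  have h'' := h'.2
  constructor
  · intro hb
    rw [hb] at h''
    simp only [if_true] at h''
    exact ⟨_, Nat.lt_of_le_of_lt Nat.and_le_right (by norm_num), Nat.eq_of_beq_eq_true h''⟩
  · rintro ⟨u, hu, e⟩
    by_contra hb
    rw [Bool.not_eq_true] at hb
    rw [hb] at h''
    simp only [Bool.false_eq_true, if_false, Bool.not_eq_true'] at h''
    have hi := forallLt_elim (forallLt_elim rep_image hc) hu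
    rw [e, h''] at hi
    exact Bool.noConfusion hi

theorem rep_aut {c : ℕ} (hc : c < 3) : isAut (repPerms.getD c 0) = true := by
  have h := forallLt_elim rep_ok hc
  rw [Bool.and_eq_true] at h
  exact (genOK_spec h.1).1

end Dual

variable {G : Type*} [Group G] [Finite G]

namespace HexBase

variable {S : Setting G} (B : HexBase S)

/-- The type of an element read off at the centralizer of `z`. -/
theorem cert_type_W [IsSimpleGroup G] (hG : ¬ IsMulCommutative G) (hJ : IsOfJankoFourType G) {w n j u : ℕ} {d : Bool}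
    (h : Dual.certW w n j u d = true) : IsConj S.z (B.vel n * B.W w) ↔ d = false := by
  simp only [Dual.certW, Bool.and_eq_true, Nat.blt_eq, beq_iff_eq, Bool.not_eq_true'] at h
  obtain ⟨⟨⟨⟨⟨⟨⟨⟨hw, hn⟩, -⟩, hj⟩, hu⟩, hq⟩, hu0⟩, hd0⟩, hd1⟩ := h
  obtain ⟨t, htC, ht⟩ := B.exists_word _ (word_ok ⟨j, hj⟩).1
  obtain ⟨-, hc⟩ := ht u (by omega)
  rw [Nat.eq_of_beq_eq_true hq] at hc
  have heU : eU n < 64 := by
    show (n >>> 1) &&& (2 ^ 6 - 1) < 64
    rw [Nat.and_two_pow_sub_one_eq_mod]
    exact Nat.mod_lt _ (by norm_num)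
  have hq1 : B.q (eU n + 64 * w) = B.U (eU n) * B.W w := by
    rw [q, show (eU n + 64 * w) % 64 = eU n by omega, show (eU n + 64 * w) / 64 = w by omega]
  have hqu : B.q u = B.U u := by rw [q, Nat.mod_eq_of_lt hu, Nat.div_eq_of_lt hu, W_zero, mul_one]
  rw [hq1, hqu] at hc
  set c := t * B.U u * t⁻¹ * (B.U (eU n) * B.W w)⁻¹ with hcdef
  have hW : eW n = 0 := by
    show n >>> 7 = 0
    rw [Nat.shiftRight_eq_div_pow]; omega
  have hx : B.vel n * B.W w = t * (zpar S.z n * c⁻¹ * B.U u) * t⁻¹ := by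
    have hcz : zpar S.z n * c⁻¹ ∈ Subgroup.zpowers S.z := by
      refine mul_mem ?_ (inv_mem hc)
      rcases zpar_mem (c := S.z) n with e | e <;> rw [e]
      exacts [one_mem _, Subgroup.mem_zpowers _]
    rw [show t * (zpar S.z n * c⁻¹ * B.U u) * t⁻¹ = t * (zpar S.z n * c⁻¹) * t⁻¹ * (t * B.U u * t⁻¹) by group,
      z_pow_comm (Frame.commute_z htC) hcz, show t * B.U u * t⁻¹ = c * (B.U (eU n) * B.W w) by rw [hcdef]; group,
      ← B.el_vel hn, el, hW, W_zero]
    group
  have hmem : ∃ m, (m = 2 * u ∨ m = 2 * u + 1) ∧ zpar S.z n * c⁻¹ * B.U u = B.vel m := by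
    have key : ∀ b < 2, B.vel (2 * u + b) = zpar S.z b * B.U u := fun b hb => by
      have h1 : eU (2 * u + b) = u := by
        show ((2 * u + b) >>> 1) &&& (2 ^ 6 - 1) = u
        rw [Nat.and_two_pow_sub_one_eq_mod, Nat.shiftRight_eq_div_pow]; omega
      have h2 : eW (2 * u + b) = 0 := by
        show (2 * u + b) >>> 7 = 0
        rw [Nat.shiftRight_eq_div_pow]; omega
      have h3 : zpar S.z (2 * u + b) = zpar S.z b := by
        unfold zpar
        rw [Nat.testBit_zero, Nat.testBit_zero, show (2 * u + b) % 2 = b % 2 by omega]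
      rw [← B.el_vel (by omega), el, h1, h2, h3, W_zero, mul_one]
    rcases S.hE.eq_or (show zpar S.z n * c⁻¹ ∈ Subgroup.zpowers S.z from mul_mem (by
      rcases zpar_mem (c := S.z) n with e | e <;> rw [e]
      exacts [one_mem _, Subgroup.mem_zpowers _]) (inv_mem hc)) with e | e <;> rw [e]
    · exact ⟨2 * u, Or.inl rfl, by rw [show 2 * u = 2 * u + 0 from rfl, key 0 (by norm_num), zpar_zero]⟩
    · exact ⟨2 * u + 1, Or.inr rfl, by rw [key 1 (by norm_num), zpar_one]⟩
  obtain ⟨m, hm, e⟩ := hmem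
  rw [hx, e]
  obtain ⟨-, hD, -⟩ := B.duads_spec hG hJ
  have hmd : dMask.testBit m = d := by rcases hm with rfl | rfl <;> assumption
  have hm0 : m ≠ 0 := by
    have : u ≠ 0 := fun e => by rw [e] at hu0; simp at hu0
    omega
  have hconj : IsConj (B.vel m) (t * B.vel m * t⁻¹) := isConj_iff.2 ⟨t, rfl⟩
  have hm2 : m < 2048 := by omega
  constructor
  · intro hz
    rw [← hmd]
    exact Bool.eq_false_iff.2 fun hb => ((hD m hm2).1 hb).2 (hz.trans hconj.symm)
  · rintro rfl
    refine (show IsConj S.z (B.vel m) from ?_).trans hconj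
    by_contra hz
    rw [(hD m hm2).2 ⟨hm0, hz⟩] at hmd
    exact Bool.noConfusion hmd

namespace TenBase

variable {B} (T : B.TenBase)

theorem isConj_conj {x : G} (g : G) : IsConj S.z (g * x * g⁻¹) ↔ IsConj S.z x :=
  ⟨fun h => h.trans (isConj_iff.2 ⟨g, rfl⟩).symm, fun h => h.trans (isConj_iff.2 ⟨g, rfl⟩)⟩

theorem act_rep {c : ℕ} (hc : c < 3) {n : ℕ} (hn : n < 2048) :
    B.act (T.lift (rep c)) n = limg (repImgs.getD c 0) n := T.act_ofP (rep_spec hc).2.1 hn

theorem type_eight [IsSimpleGroup G] (hG : ¬ IsMulCommutative G) (hJ : IsOfJankoFourType G) {c j : ℕ} (hc : c < 3)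
    (hc0 : c ≠ 0) (hj : j < repSize c) :
    IsConj S.z (T.pr (repVec c j) (rep c)) ↔ Nat.testBit (repMask.getD c 0) j = true := by
  obtain ⟨hn, hfn⟩ := repVec_facts hc hj
  set r := rep c with hr
  set k1 : ↥M24 := ⟨fixP 1, fixP_mem 1⟩ with hk1
  obtain ⟨i, hi, hir⟩ := rep_index hc
  obtain ⟨-, -, r2, r1⟩ := inv'_spec hi
  have k2 : k1 * k1 = 1 := Subtype.ext (fixP_sq 1)
  have k1n : k1 ≠ 1 := fun e => absurd (fixP_inj (a := 1) (b := 0) ((congrArg Subtype.val e).trans fixP_zero.symm))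
    (by decide)
  have hnk : ¬ ∀ p, k1.1 p ≠ p := fun h => by
    obtain ⟨x, hx⟩ : oct.Nonempty := Finset.card_pos.1 (by rw [oct_mem.2]; norm_num)
    exact h x (fixP_fix 1 hx)
  obtain ⟨-, -, -, hclass⟩ := CfsgLib.ThreeTrans.M24Inv.main
  obtain ⟨g, hg, e⟩ := hclass _ r.2 _ k1.2 (orderOf_invol (g := r) (by rw [hr, ← hir]; exact r2) (by rw [hr, ← hir]; exact r1))
    (orderOf_invol k2 k1n) (iff_of_false (fun h => hc0 ((free_iff hc).1 h)) hnk)
  set g' : ↥M24 := ⟨g, hg⟩
  have eg : g' * r * g'⁻¹ = k1 := Subtype.ext e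
  have hfix : fImg 1 (B.act (T.lift g') (repVec c j)) = B.act (T.lift g') (repVec c j) := by
    show fImg (1 : Fin 16).1 _ = _
    rw [← T.kk_act 1 (B.act_lt _ _), show T.kk 1 = T.lift k1 from rfl, ← T.act_mul_lift k1 g' hn,
      show k1 * g' = g' * r by rw [← eg]; group, T.act_mul_lift g' r hn, T.act_rep hc hn, hfn]
  have h1 : IsConj S.z (T.pr (repVec c j) r) ↔
      (commMasks.getD 1 0).testBit (B.act (T.lift g') (repVec c j)) = true := by
    rw [← T.type_one hG hJ (B.act_lt _ _) hfix, ← isConj_conj (T.lift g'), T.conj_pr hn, eg]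
    rfl
  rw [h1, mask_iff hc hj]
  constructor
  · intro hb
    have h := forallLt_elim comm_one_pre (B.act_lt (T.lift g') (repVec c j))
    rw [hb, Bool.not_true, Bool.false_or] at h
    obtain ⟨u, hu, eu⟩ := exists_of_forallLt_not h
    set u' := B.act (T.lift g'⁻¹) u with hu'
    have hu'l : u' < 2048 := B.act_lt _ _
    have hgu : B.act (T.lift g') u' = u := by
      rw [hu', ← T.act_mul_lift g' g'⁻¹ hu, mul_inv_cancel, T.act_one hu]
    refine ⟨u', hu'l, ?_⟩
    have hl : limg (repImgs.getD c 0) u' < 2048 := by rw [← T.act_rep hc hu'l]; exact B.act_lt _ _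
    refine B.act_inj (T.lift_mem g') (Nat.xor_lt_two_pow (n := 11) hu'l hl) hn ?_
    rw [← Nat.eq_of_beq_eq_true eu, show Nat.xor u' (limg (repImgs.getD c 0) u') = u' ^^^ limg (repImgs.getD c 0) u' from rfl,
      B.act_xor (T.lift_mem g'), hgu, ← T.act_rep hc hu'l, ← T.act_mul_lift g' r hu'l,
      show g' * r = k1 * g' by rw [← eg]; group, T.act_mul_lift k1 g' hu'l, hgu]
    show u ^^^ B.act (T.kk 1) u = fComm 1 u
    rw [T.kk_act 1 hu]
    rfl
  · rintro ⟨u, hu, eu⟩
    have h := forallLt_elim (forallLt_elim comm_image (show 1 < 16 by norm_num)) (B.act_lt (T.lift g') u)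
    have hgl := B.act_lt (T.lift g') u
    rw [show fComm 1 (B.act (T.lift g') u) = B.act (T.lift g') (repVec c j) by
      rw [← eu, show Nat.xor u (limg (repImgs.getD c 0) u) = u ^^^ limg (repImgs.getD c 0) u from rfl,
        B.act_xor (T.lift_mem g'), ← T.act_rep hc hu, ← T.act_mul_lift g' r hu,
        show g' * r = k1 * g' by rw [← eg]; group, T.act_mul_lift k1 g' hu]
      show _ = B.act (T.lift g') u ^^^ B.act (T.kk 1) (B.act (T.lift g') u)
      rw [T.kk_act 1 hgl]
      rfl] at h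
    exact h

theorem exists_rule [IsSimpleGroup G] (hG : ¬ IsMulCommutative G) (hJ : IsOfJankoFourType G) :
    ∃ o : Bool, ∀ c < 3, ∀ j < repSize c,
      (IsConj S.z (T.pr (repVec c j) (rep c)) ↔ rule o c (Nat.testBit (repMask.getD c 0) j) = true) := by
  classical
  have h0 : (0 : ℕ) < 3 := by norm_num
  let P : ℕ → Prop := fun j => IsConj S.z (T.pr (repVec 0 j) (rep 0))
  have hsize : repSize 0 = 64 := by decide +kernel
  have hdep : ∀ i < 64, ∀ j < 64,
      Nat.testBit (repMask.getD 0 0) i = Nat.testBit (repMask.getD 0 0) j → (P i ↔ P j) := by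
    intro i hi j hj e
    have hx : i ^^^ j < 64 := Nat.xor_lt_two_pow (n := 6) hi hj
    have h := forallLt_elim (forallLt_elim rep_coset hi) hj
    rw [e, beq_self_eq_true, Bool.not_true, Bool.false_or] at h
    obtain ⟨u, hu, eu⟩ := (mask_iff h0 (hsize ▸ hx)).1 h
    show IsConj S.z _ ↔ IsConj S.z _
    rw [← isConj_conj (B.vel u) (x := T.pr (repVec 0 j) (rep 0)), T.conj_vel hu, T.act_rep h0 hu, eu, show Nat.xor i j = i ^^^ j from rfl, repVec_xor]
    rw [show Nat.xor (repVec 0 j) (repVec 0 i ^^^ repVec 0 j) = repVec 0 i by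
      show repVec 0 j ^^^ (repVec 0 i ^^^ repVec 0 j) = repVec 0 i
      rw [Nat.xor_comm (repVec 0 i), ← Nat.xor_assoc, Nat.xor_self, Nat.zero_xor]]
  obtain ⟨-, hz0, -, hfree, -, nz⟩ := pt_aut
  obtain ⟨r0, hr0M, hr0⟩ := exists_mem_M24 hz0
  have hmv := B.moves24_of_table (w := 22) (by norm_num) hr0 fun i hi j hj => by
    have := forallLt_elim (forallLt_elim pt_moves hi) hj
    rw [Bool.and_eq_true] at this
    exact Nat.eq_of_beq_eq_true this.2
  obtain ⟨i0, hi0, hir⟩ := rep_index h0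
  obtain ⟨-, -, r2, r1⟩ := inv'_spec hi0
  have o0 : orderOf r0 = 2 := by
    refine orderOf_eq_prime ?_ fun e => ?_
    · have hW := B.W_sq 22
      have hN : B.W 22 ∈ B.NV := B.actsV_norm (B.t_actsV (by norm_num))
      refine (B.moves24_unique (σ := r0 ^ 2) (τ := 1) (g := 1) ?_ ?_)
      · rw [← hW, pow_two]; exact B.moves24_mul hN hN hmv hmv
      · exact fun x y => B.act_eq (one_mem _) (pairCode_lt x y) (pairCode_lt _ _) (by simp)
    · rw [(peq_iff hr0 Rep.one).2 e] at nz; exact Bool.noConfusion nz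
  obtain ⟨-, -, -, hclass⟩ := CfsgLib.ThreeTrans.M24Inv.main
  obtain ⟨g, hg, eg⟩ := hclass _ hr0M _ (rep 0).2 o0
    (orderOf_invol (g := rep 0) (hir ▸ r2) (hir ▸ r1))
    (iff_of_true (fun p hp => by
      have := forallLt_elim hfree (ix_lt p)
      rw [hr0 p, hp] at this
      simp at this) ((free_iff h0).2 rfl))
  have hpoint : ∀ {a jj u d}, certW 22 a jj u d = true → ∃ j < 64, (P j ↔ d = false) := by
    intro a jj u d h
    have h' := h
    simp only [certW, Bool.and_eq_true, Nat.blt_eq] at h'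
    obtain ⟨⟨⟨⟨⟨⟨⟨⟨-, ha⟩, haf⟩, -⟩, -⟩, -⟩, -⟩, -⟩, -⟩ := h'
    have ha' : a < 2048 := by omega
    have hN : B.W 22 ∈ B.NV := B.actsV_norm (B.t_actsV (by norm_num))
    set x := T.lift ⟨g, hg⟩ * (B.vel a * B.W 22) * (T.lift ⟨g, hg⟩)⁻¹ with hx
    have hxN : x ∈ B.NV :=
      mul_mem (mul_mem (T.lift_mem _) (mul_mem (Subgroup.le_normalizer (B.vel_mem ha')) hN)) (inv_mem (T.lift_mem _))
    obtain ⟨n, hn, σ, hxe⟩ := T.exists_pr hxN
    have hmx : B.Moves24 x (g * r0 * g⁻¹) := by
      have hv : B.Moves24 (B.vel a) 1 := fun p q => by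
        refine B.act_eq (Subgroup.le_normalizer (B.vel_mem ha')) (pairCode_lt p q) (pairCode_lt _ _) ?_
        rw [B.vel_comm, mul_inv_cancel_right]
        simp
      have := B.moves24_mul (mul_mem (T.lift_mem _) (mul_mem (Subgroup.le_normalizer (B.vel_mem ha')) hN))
        (inv_mem (T.lift_mem ⟨g, hg⟩)) (B.moves24_mul (T.lift_mem _) (mul_mem (Subgroup.le_normalizer (B.vel_mem ha')) hN)
          (T.moves_lift ⟨g, hg⟩) (B.moves24_mul (Subgroup.le_normalizer (B.vel_mem ha')) hN hv hmv))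
        (B.moves24_inv (T.lift_mem _) (T.moves_lift ⟨g, hg⟩))
      rwa [one_mul] at this
    have hσ : σ = rep 0 := by
      refine Subtype.ext ?_
      rw [← eg]
      refine B.moves24_unique (g := x) ?_ hmx
      rw [← hxe]
      have hv : B.Moves24 (B.vel n) 1 := fun p q => by
        refine B.act_eq (Subgroup.le_normalizer (B.vel_mem hn)) (pairCode_lt p q) (pairCode_lt _ _) ?_
        rw [B.vel_comm, mul_inv_cancel_right]
        simp
      have := B.moves24_mul (Subgroup.le_normalizer (B.vel_mem hn)) (T.lift_mem σ) hv (T.moves_lift σ)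
      rwa [one_mul] at this
    subst hσ
    have hx2 : x * x = 1 := by
      have hcm : Commute (B.W 22) (B.vel a) :=
        (B.commute_iff_act hN ha').2 ((B.act_of_actsV (B.t_actsV (w := 22) (by norm_num)) ha').trans (Nat.eq_of_beq_eq_true haf))
      have h22 : B.vel a * B.W 22 * (B.vel a * B.W 22) = 1 := by
        rw [show B.vel a * B.W 22 * (B.vel a * B.W 22) = B.vel a * (B.W 22 * B.vel a) * B.W 22 by group, hcm.eq,
          ← mul_assoc, B.vel_sq, one_mul, B.W_sq]
      rw [hx, show T.lift ⟨g, hg⟩ * (B.vel a * B.W 22) * (T.lift ⟨g, hg⟩)⁻¹ * (T.lift ⟨g, hg⟩ * (B.vel a * B.W 22) * (T.lift ⟨g, hg⟩)⁻¹) =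
        T.lift ⟨g, hg⟩ * (B.vel a * B.W 22 * (B.vel a * B.W 22)) * (T.lift ⟨g, hg⟩)⁻¹ by group, h22, mul_one, mul_inv_cancel]
    rw [← hxe] at hx2
    have hfix := ((T.sq_eq_one_iff hn (rep 0)).1 hx2).2
    rw [T.act_rep h0 hn] at hfix
    obtain ⟨j, hj, rfl⟩ := exists_repVec h0 hn hfix
    refine ⟨j, hsize ▸ hj, ?_⟩
    show IsConj S.z _ ↔ _
    rw [hxe, hx, isConj_conj, B.cert_type_W hG hJ h]
  obtain ⟨j1, hj1, p1⟩ := hpoint cert_free.1
  obtain ⟨j2, hj2, p2⟩ := hpoint cert_free.2
  have n1 : ¬ P j1 := fun h => Bool.noConfusion (p1.1 h)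
  have p2' : P j2 := p2.2 rfl
  refine ⟨Nat.testBit (repMask.getD 0 0) j2, fun c hc j hj => ?_⟩
  by_cases hc0 : c = 0
  · subst hc0
    rw [hsize] at hj
    show P j ↔ _
    rw [rule, show Nat.beq 0 0 = true from rfl, Bool.true_and]
    have hne : Nat.testBit (repMask.getD 0 0) j1 ≠ Nat.testBit (repMask.getD 0 0) j2 := fun e =>
      n1 ((hdep _ hj1 _ hj2 e).2 p2')
    by_cases hb : Nat.testBit (repMask.getD 0 0) j = Nat.testBit (repMask.getD 0 0) j2
    · refine iff_of_true ((hdep _ hj _ hj2 hb).2 p2') ?_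
      rw [hb]
      cases Nat.testBit (repMask.getD 0 0) j2 <;> rfl
    · have hb1 : Nat.testBit (repMask.getD 0 0) j = Nat.testBit (repMask.getD 0 0) j1 := by
        revert hb hne
        cases Nat.testBit (repMask.getD 0 0) j <;> cases Nat.testBit (repMask.getD 0 0) j1 <;>
          cases Nat.testBit (repMask.getD 0 0) j2 <;> simp
      refine iff_of_false (fun h => n1 ((hdep _ hj _ hj1 hb1).1 h)) ?_
      revert hb
      cases Nat.testBit (repMask.getD 0 0) j <;> cases Nat.testBit (repMask.getD 0 0) j2 <;> simp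
  · rw [rule, show Nat.beq c 0 = false from Bool.eq_false_iff.2 fun e => hc0 (Nat.eq_of_beq_eq_true e), Bool.false_and]
    simp only [Bool.false_eq_true, if_false]
    exact T.type_eight hG hJ hc hc0 hj

end TenBase

end HexBase

end CfsgLib.JankoFour
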